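import Groth.Agent.H12AlgSp.NormSp.BaseChange
import Groth.Agent.H17.NagataNorm
import Groth.Agent.H13AlgSp.FibreRed
import Groth.Agent.H13AlgSp.EtaleLocally

/-!
Finiteness of the normalization over a Nagata base.
-/

set_option autoImplicit false
set_option linter.style.haveILetI false

universe u

open CategoryTheory CategoryTheory.Limits AlgebraicGeometry
open AlgSp Groth.Agent.H13AlgSp

namespace Groth.Agent.H12AlgSp.NormSp

variable {S : Scheme.{u}}

theorem finite_integralClosure_of_finiteType {R A : Type u} [CommRing R] [CommRing A] [Algebra R A]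
    (hR : CAlg.IsNagata R) [Algebra.FiniteType R A] [_root_.IsReduced A] :
    Module.Finite R (integralClosure R A) := by
  haveI := hR.1
  haveI : IsNoetherianRing A := Algebra.FiniteType.isNoetherianRing R A
  haveI : Finite (minimalPrimes A) := (minimalPrimes.finite_of_isNoetherianRing (R := A)).to_subtype
  haveI hp : ∀ P : minimalPrimes A, P.1.IsPrime := fun P => Ideal.minimalPrimes_isPrime P.2
  refine H17.NagataNorm.finite_integralClosure_of_jointly_injective R A hR
    (fun P : minimalPrimes A => FractionRing (A ⧸ P.1))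
    (fun P => (algebraMap (A ⧸ P.1) (FractionRing (A ⧸ P.1))).comp (Ideal.Quotient.mk P.1)) ?_ ?_
  · intro P
    have h1 : ((Ideal.Quotient.mk P.1).comp (algebraMap R A)).FiniteType :=
      RingHom.FiniteType.comp (RingHom.FiniteType.of_surjective _ Ideal.Quotient.mk_surjective)
        (RingHom.finiteType_algebraMap.2 ‹_›)
    have h2 : (algebraMap (A ⧸ P.1) (FractionRing (A ⧸ P.1))).EssFiniteType :=
      RingHom.essFiniteType_algebraMap.mpr
        (Algebra.EssFiniteType.of_isLocalization _ (nonZeroDivisors (A ⧸ P.1)))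
    rw [RingHom.comp_assoc]
    exact RingHom.EssFiniteType.comp h1.essFiniteType h2
  · intro x hx
    have : x ∈ sInf (minimalPrimes A) := by
      simp only [Submodule.mem_sInf]
      intro P hP
      exact Ideal.Quotient.eq_zero_iff_mem.1
        (IsFractionRing.injective (A ⧸ P) _ ((hx ⟨P, hP⟩).trans (map_zero _).symm))
    have h' : x ∈ (⊥ : Ideal A).radical := by
      rw [← Ideal.sInf_minimalPrimes]
      exact this
    exact IsReduced.eq_zero _ (Ideal.mem_radical_iff.1 h' |>.imp fun n hn => Ideal.mem_bot.1 hn)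

variable {R : Type u} [CommRing R] {σ : Spec (CommRingCat.of R) ⟶ S}

/-- The normalization of a Nagata affine scheme in a reduced space of finite type over it is finite. -/
theorem isFinite_of_nagata (hR : CAlg.IsNagata R) {Y : Sp S} (hY : IsAlgSpace Y)
    (g : Y ⟶ (yon S).obj (Over.mk σ)) (hqc : IsQuasiCompactMor g) (hft : LocP @LocallyOfFiniteType g)
    (hred : EtaleLocally (fun U => IsReduced U) Y) {N : Over S} (νN : N ⟶ Over.mk σ)
    (f' : Y ⟶ (yon S).obj N) (h : IsRelNormalization g ((yon S).map νN) f') : IsFinite νN.left := by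
  obtain ⟨hf, hi, hu⟩ := h
  have hU : IsAlgSpace ((yon S).obj (Over.mk σ)) := IsAlgSpace.yon_obj _
  haveI : IsAffine (Over.mk σ).left := inferInstanceAs (IsAffine (Spec (CommRingCat.of R)))
  haveI hνi : IsIntegralHom νN.left := (repWith_yon_map_iff _ _).1 (isIntegralMor_iff.1 hi)
  haveI : IsAffine N.left := isAffine_of_isAffineHom νN.left
  obtain ⟨C, iC, iRC, eN, heN⟩ := exists_spec_over σ νN
  haveI hCi : Algebra.IsIntegral R C := by
    have : IsIntegralHom (specHom σ C).left := by
      rw [← heN]; exact inferInstanceAs (IsIntegralHom (eN.hom.left ≫ νN.left))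
    exact ⟨IsIntegralHom.SpecMap_iff.1 this⟩
  have hYc : IsQuasiCompactSp Y := hqc hU (isQuasiCompactSp_yon_iff.2 inferInstance) (𝟙 _) (𝟙 _) g
    (IsPullback.of_horiz_isIso ⟨by simp⟩)
  haveI := compactSpace_points_of_isQuasiCompactSp hYc
  obtain ⟨V₀, p₀, hV₀, hp₀e, hp₀s⟩ := exists_affine_atlas hY
  obtain ⟨v₀, hv₀⟩ := (yon S).map_surjective (p₀ ≫ g)
  obtain ⟨A, iA, iRA, eA, heA⟩ := exists_spec_over σ v₀
  let p : (yon S).obj (specOver σ A) ⟶ Y := (yon S).map eA.hom ≫ p₀
  have hpe : RepWith @Etale p := repWith_comp (repWith_of_isIso _) hp₀e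
  have hps : RepWith @Surjective p := repWith_comp (repWith_of_isIso _) hp₀s
  have hpg : p ≫ g = (yon S).map (specHom σ A) := by
    rw [Category.assoc, ← hv₀, ← Functor.map_comp, heA]
  haveI : Algebra.FiniteType R A := by
    have := hft p (𝟙 _) (specHom σ A) hpe (repWith_id @Etale _) (by rw [hpg, Category.comp_id])
    exact RingHom.finiteType_algebraMap.1 ((HasRingHomProperty.Spec_iff (P := @LocallyOfFiniteType)).1 this)
  haveI : IsReduced (specOver σ A).left :=
    etaleLocally_chart (fun k hk hB => by haveI := hk; haveI := hB; exact isReduced_of_smooth_mor k)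
      (fun k hk hs hA => by
        haveI := hk; haveI := hs; haveI := hA; exact Groth.Agent.H13AlgSp.FibreRed.isReduced_of_flat_surjective k)
      hY hred hpe
  haveI : _root_.IsReduced A := by
    haveI : IsReduced (Spec (CommRingCat.of A)) := ‹IsReduced (specOver σ A).left›
    exact isReduced_of_injective (Scheme.ΓSpecIso (CommRingCat.of A)).inv.hom
      (ConcreteCategory.bijective_of_isIso (Scheme.ΓSpecIso (CommRingCat.of A)).inv).1
  have hν' : (yon S).map eN.hom ≫ (yon S).map νN = (yon S).map (specHom σ C) := by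
    rw [← Functor.map_comp, heN]
  obtain ⟨k₀, hk₀⟩ := (yon S).map_surjective (p ≫ f' ≫ (yon S).map eN.inv)
  have hk₀' : k₀ ≫ specHom σ C = specHom σ A := (yon S).map_injective (by
    rw [Functor.map_comp, hk₀, ← hν', ← hpg, ← hf]
    simp only [Category.assoc, ← Functor.map_comp, Iso.inv_hom_id_assoc])
  obtain ⟨φ, hφ⟩ := exists_algHom σ k₀ hk₀'
  have hsurj : Function.Surjective φ.rangeRestrict := φ.rangeRestrict_surjective
  let i : specOver σ φ.range ⟶ specOver σ C := specAlgHom σ φ.rangeRestrict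
  let j : specOver σ A ⟶ specOver σ φ.range := specAlgHom σ φ.range.val
  have hji : j ≫ i = k₀ := by
    rw [← hφ]
    refine Over.OverMorphism.ext ?_
    change Spec.map _ ≫ Spec.map _ = Spec.map _
    rw [← Spec.map_comp]
    rfl
  haveI : IsClosedImmersion i.left :=
    IsClosedImmersion.spec_of_surjective (CommRingCat.ofHom φ.rangeRestrict.toRingHom) hsurj
  haveI : Mono ((Over.forget S).map i) := inferInstanceAs (Mono i.left)
  haveI : Mono i := (Over.forget S).mono_of_mono_map ‹_›
  haveI : Mono ((yon S).map i) := (yon S).map_mono i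
  have hcov : Covers (fun _ : PUnit.{u + 1} => p) := covers_single hpe hps
  obtain ⟨f₁, hf₁, -⟩ := hcov.existsUnique_glue (fun _ => (yon S).map j) fun _ _ V x y hxy => by
    rw [← cancel_mono ((yon S).map i), Category.assoc, Category.assoc, ← Functor.map_comp, hji, hk₀,
      reassoc_of% hxy]
  have hiν : i ≫ specHom σ C = specHom σ φ.range := by
    refine Over.OverMorphism.ext ?_
    change Spec.map _ ≫ Spec.map _ = Spec.map _
    rw [← Spec.map_comp]
    exact congrArg _ (CommRingCat.hom_ext (RingHom.ext fun r => φ.rangeRestrict.commutes r))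
  haveI : Algebra.IsIntegral R φ.range := Algebra.IsIntegral.of_surjective φ.rangeRestrict hsurj
  have hf₁i : f₁ ≫ (yon S).map i ≫ (yon S).map eN.hom = f' := hcov.hom_ext fun _ => by
    rw [reassoc_of% hf₁ ⟨⟩, ← Functor.map_comp_assoc, hji, hk₀]
    simp [← Functor.map_comp]
  have hs : (yon S).map i ≫ (yon S).map eN.hom ≫ (yon S).map νN = (yon S).map (specHom σ φ.range) := by
    rw [hν', ← Functor.map_comp, hiν]
  have hint : IsIntegralMor ((yon S).map (specHom σ φ.range)) :=
    isIntegralMor_iff.2 ((repWith_yon_map_iff _ _).2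
      (IsIntegralHom.SpecMap_iff.2 fun x => Algebra.IsIntegral.isIntegral (R := R) x))
  obtain ⟨h₁, ⟨hh1, hh2⟩, -⟩ := hu (IsAlgSpace.yon_obj _) ((yon S).map (specHom σ φ.range)) f₁ hint (by
    rw [← hs, ← hf, ← hf₁i]; simp only [Category.assoc])
  obtain ⟨_, -, hid⟩ := hu (IsAlgSpace.yon_obj _) ((yon S).map νN) f' hi hf
  have hone : h₁ ≫ (yon S).map i ≫ (yon S).map eN.hom = 𝟙 _ :=
    (hid _ ⟨by rw [reassoc_of% hh1, hf₁i], by simp only [Category.assoc]; rw [hs, hh2]⟩).trans
      (hid (𝟙 _) ⟨Category.comp_id _, Category.id_comp _⟩).symm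
  obtain ⟨h₂, rfl⟩ := (yon S).map_surjective h₁
  rw [← Functor.map_comp, ← Functor.map_comp, ← CategoryTheory.Functor.map_id] at hone
  have hsplit : (eN.hom ≫ h₂) ≫ i = 𝟙 _ := by
    rw [← cancel_mono eN.hom, Category.assoc, Category.assoc, (yon S).map_injective hone, Category.comp_id,
      Category.id_comp]
  haveI : IsSplitEpi i := ⟨⟨_, hsplit⟩⟩
  haveI : IsIso i := isIso_of_mono_of_isSplitEpi i
  haveI : IsNoetherianRing R := hR.1
  haveI := finite_integralClosure_of_finiteType (R := R) (A := A) hR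
  have hle : φ.range ≤ integralClosure R A := by
    rintro x ⟨c, rfl⟩
    exact (Algebra.IsIntegral.isIntegral (R := R) c).map φ
  haveI : Module.Finite R φ.range :=
    Module.Finite.of_injective (Subalgebra.inclusion hle).toLinearMap (Subalgebra.inclusion_injective hle)
  haveI : IsFinite (specHom σ φ.range).left :=
    (IsFinite.SpecMap_iff _).2 (RingHom.finite_algebraMap.2 ‹_›)
  have e : νN = (eN.inv ≫ inv i) ≫ specHom σ φ.range := by
    rw [← hiν, ← heN]
    simp
  rw [e]
  haveI : IsIso (eN.inv ≫ inv i).left := inferInstanceAs (IsIso ((Over.forget S).map (eN.inv ≫ inv i)))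
  exact inferInstanceAs (IsFinite ((eN.inv ≫ inv i).left ≫ (specHom σ φ.range).left))

theorem isEtaleMor_of_repWith {T X : Sp S} {x : T ⟶ X} (h : RepWith @Etale x) : IsEtaleMor x :=
  fun _ _ hφ => repWith_comp hφ h

/-- Finiteness of the normalization over a Nagata base. -/
theorem isFiniteMor_of_nagata {X Y Y' : Sp S} (hX : IsAlgSpace X) (hY : IsAlgSpace Y) (hY' : IsAlgSpace Y')
    {f : X ⟶ Y} (hN : EtaleLocally (fun U => ∀ V : U.Opens, IsAffineOpen V → CAlg.IsNagata ↑Γ(U, V)) Y)
    (hqc : IsQuasiCompactMor f) (hqs : IsQuasiSeparatedMor f) (hft : LocP @LocallyOfFiniteType f)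
    (hred : EtaleLocally (fun U => IsReduced U) X) {ν : Y' ⟶ Y} {f' : X ⟶ Y'}
    (hn : IsRelNormalization f ν f') : IsFiniteMor ν := by
  obtain ⟨U, p, hpe, hps, hU⟩ := hN
  obtain ⟨N, νN, fst, sqN⟩ := (isIntegralMor_iff.1 hn.2.1).1 p
  refine isFiniteMor_iff.2 (repWith_of_etale_cover (fun _ _ k (_ : IsFinite k) => inferInstanceAs (IsAffineHom k))
    hY' hY hpe hps sqN ((repWith_yon_map_iff _ _).2 ?_))
  refine IsZariskiLocalAtTarget.of_openCover
    (U.left.openCoverOfIsOpenCover (fun W : U.left.affineOpens => W.1) (iSup_affineOpens_eq_top U.left))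
    fun W => ?_
  change IsFinite (pullback.snd νN.left W.1.ι)
  let σW : Spec (CommRingCat.of Γ(U.left, W.1)) ⟶ S := W.2.fromSpec ≫ U.hom
  let w : Over.mk σW ⟶ U := Over.homMk W.2.fromSpec rfl
  let x : (yon S).obj (Over.mk σW) ⟶ Y := (yon S).map w ≫ p
  have hxe : RepWith @Etale x := repWith_comp ((repWith_yon_map_iff _ _).2
    (inferInstanceAs (Etale W.2.fromSpec))) hpe
  have hx := locP_smooth_of_isEtaleMor (isEtaleMor_of_repWith hxe)
  have hfull := fullAt_of_isRelNormalization hX hY hY' hqc hqs hn (IsAlgSpace.yon_obj _) x hx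
  have sX := IsPullback.of_hasPullback f x
  have sN := ((IsPullback.of_hasPullback νN w).map (yon S)).paste_horiz sqN
  let m : pullback f x ⟶ (yon S).obj (pullback νN w) :=
    sN.lift (pullback.fst _ _ ≫ f') (pullback.snd _ _) (by rw [Category.assoc, hn.1, pullback.condition])
  have hNW : IsRelNormalization (pullback.snd f x) ((yon S).map (pullback.snd νN w)) m :=
    hfull _ _ _ _ m sX sN (sN.lift_fst _ _ _) (sN.lift_snd _ _ _)
  have hXW : IsAlgSpace (pullback f x) := isAlgSpace_pullback hY.diag hX (IsAlgSpace.yon_obj _) _ _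
  have hredW : EtaleLocally (fun U => IsReduced U) (pullback f x) := by
    obtain ⟨T, c, hce, hcs⟩ := hXW.atlas
    refine ⟨T, c, hce, hcs, etaleLocally_chart (fun k hk hB => by
        haveI := hk; haveI := hB; exact isReduced_of_smooth_mor k)
      (fun k hk hs hA => by
        haveI := hk; haveI := hs; haveI := hA; exact Groth.Agent.H13AlgSp.FibreRed.isReduced_of_flat_surjective k)
      hX hred (b := c ≫ pullback.fst f x) (repWith_comp hce (repWith_of_isPullback sX.flip hxe))⟩
  haveI hfin : IsFinite (pullback.snd νN w).left := isFinite_of_nagata (hU W.1 W.2) hXW (pullback.snd f x)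
    (isQuasiCompactMor_of_isPullback sX hqc)
    (locP_of_isPullback etLocal_lft sX hX hY (IsAlgSpace.yon_obj _) hft) hredW _ m hNW
  have sq₁ := (IsPullback.of_hasPullback νN w).map (Over.forget S)
  have sq₂ : IsPullback (pullback.fst νN w).left ((pullback.snd νN w).left ≫ W.2.isoSpec.inv) νN.left W.1.ι :=
    IsPullback.of_iso sq₁ (Iso.refl _) (Iso.refl _) W.2.isoSpec.symm (Iso.refl _) (by simp) (by simp)
      (by simp) (by change W.2.fromSpec ≫ 𝟙 _ = W.2.isoSpec.inv ≫ W.1.ι; rw [Category.comp_id]; rfl)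
  exact (MorphismProperty.cancel_left_of_respectsIso @IsFinite sq₂.isoPullback.hom _).1
    (by rw [sq₂.isoPullback_hom_snd]; exact inferInstanceAs (IsFinite ((pullback.snd νN w).left ≫ _)))

end Groth.Agent.H12AlgSp.NormSp
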