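import Groth.Agent.H12AlgSp.NormSp.Local
import Groth.Agent.H13AlgSp.RelRep

/-!
The normalization property on a scheme is local.
-/

set_option autoImplicit false

universe u

open CategoryTheory CategoryTheory.Limits AlgebraicGeometry Opposite
open AlgSp Groth.Agent.H13AlgSp

namespace Groth.Agent.H12AlgSp.NormSp

variable {S : Scheme.{u}} {Y X X' : Sp S} {f : Y ⟶ X} {ν : X' ⟶ X} {f' : Y ⟶ X'}

/-- If the property holds on the affine opens of a scheme which lie in a member of an open covering,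
it holds on the scheme. -/
theorem fullAt_scheme (hν : IsIntegralMor ν) {T : Over S} (x : (yon S).obj T ⟶ X) {κ : Type u}
    {C : κ → Over S} (c : ∀ k, C k ⟶ T) (ho : ∀ k, IsOpenImmersion (c k).left)
    (hs : ∀ t : T.left, ∃ k, t ∈ Set.range (c k).left)
    (h : ∀ (W : Over S) (w : W ⟶ T), IsAffine W.left → IsOpenImmersion w.left →
      (∃ k, Set.range w.left ⊆ Set.range (c k).left) → FullAt f ν f' ((yon S).map w ≫ x)) :
    FullAt f ν f' x := by
  let I := {O : T.left.Opens // IsAffineOpen O ∧ ∃ k, (O : Set T.left) ⊆ Set.range (c k).left}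
  have hI : ∀ t : T.left, ∃ O : I, t ∈ O.1 := fun t => by
    obtain ⟨k, hk⟩ := hs t
    have := ho k
    obtain ⟨O, hO, htO, hle⟩ := exists_isAffineOpen_mem_and_subset
      (x := t) (U := (c k).left.opensRange) hk
    exact ⟨⟨O, hO, k, hle⟩, htO⟩
  refine fullAt_of_cover hν (covers_open (fun O : I => openIncl T O.1)
    (fun O => inferInstanceAs (IsOpenImmersion O.1.ι))
    (fun t => (hI t).imp fun O hO => ⟨⟨t, hO⟩, rfl⟩)) (IsAlgSpace.yon_obj _) (fun O => IsAlgSpace.yon_obj _)
    (fun O => h _ _ O.2.1 (inferInstanceAs (IsOpenImmersion O.1.ι)) ?_) fun O O' => ?_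
  · obtain ⟨k, hk⟩ := O.2.2
    exact ⟨k, fun y ⟨z, hz⟩ => hk (hz ▸ z.2)⟩
  let R := pullback (openIncl T O.1) (openIncl T O'.1)
  let r₁ : R ⟶ openOver T O.1 := pullback.fst _ _
  refine ⟨(yon S).obj R, (yon S).map r₁, (yon S).map (pullback.snd _ _),
    (IsPullback.of_hasPullback _ _).map (yon S), IsAlgSpace.yon_obj _, ?_⟩
  have hr : IsOpenImmersion r₁.left := by
    have := ((IsPullback.of_hasPullback (openIncl T O.1) (openIncl T O'.1)).map (Over.forget S)).flip
    exact MorphismProperty.of_isPullback (P := @IsOpenImmersion) this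
      (show IsOpenImmersion ((openIncl T O'.1).left) from inferInstanceAs (IsOpenImmersion O'.1.ι))
  let A := {O'' : R.left.Opens // IsAffineOpen O''}
  refine uniqAt_of_cover (covers_open (fun O'' : A => openIncl R O''.1)
    (fun O'' => inferInstanceAs (IsOpenImmersion O''.1.ι))
    (fun t => by
      obtain ⟨V, hV, htV, -⟩ := exists_isAffineOpen_mem_and_subset (x := t) (U := ⊤) trivial
      exact ⟨⟨V, hV⟩, ⟨t, htV⟩, rfl⟩)) (IsAlgSpace.yon_obj _) (fun O'' => IsAlgSpace.yon_obj _) fun O'' => ?_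
  rw [← Functor.map_comp_assoc, ← Functor.map_comp_assoc]
  refine (h _ (openIncl R O''.1 ≫ r₁ ≫ openIncl T O.1) (show IsAffineOpen O''.1 from O''.2) ?_ ?_).uniqAt
  · haveI := hr
    exact MorphismProperty.comp_mem @IsOpenImmersion _ _ (inferInstanceAs (IsOpenImmersion O''.1.ι)) (MorphismProperty.comp_mem @IsOpenImmersion _ _ hr (inferInstanceAs (IsOpenImmersion O.1.ι)))
  · obtain ⟨k, hk⟩ := O.2.2
    refine ⟨k, fun y ⟨z, hz⟩ => hk ?_⟩
    rw [← hz]
    exact (r₁.left ((openIncl R O''.1).left z)).2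

/-- Variant with all affine opens. -/
theorem fullAt_scheme' (hν : IsIntegralMor ν) {T : Over S} (x : (yon S).obj T ⟶ X)
    (h : ∀ (W : Over S) (w : W ⟶ T), IsAffine W.left → IsOpenImmersion w.left →
      FullAt f ν f' ((yon S).map w ≫ x)) : FullAt f ν f' x :=
  fullAt_scheme hν x (fun _ : PUnit.{u + 1} => 𝟙 T) (fun _ => inferInstanceAs (IsOpenImmersion (𝟙 T.left)))
    (fun t => ⟨⟨⟩, t, rfl⟩) fun W w hW hw _ => h W w hW hw

end Groth.Agent.H12AlgSp.NormSp
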