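import Groth.Agent.H12AlgSp.NormSp.Affine
import Groth.Agent.H12AlgSp.NormSp.Scheme
import Groth.Agent.H12AlgSp.LocP
import Mathlib.AlgebraicGeometry.Limits

/-!
The normalization over an atlas of an algebraic space.
-/

set_option autoImplicit false
set_option linter.style.haveILetI false

universe u

open CategoryTheory CategoryTheory.Limits AlgebraicGeometry
open AlgSp Groth.Agent.H13AlgSp

namespace Groth.Agent.H12AlgSp.NormSp

variable {S : Scheme.{u}}

theorem isQuasiCompactMor_of_isPullback {F G F' G' : Sp S} {fst : F' ⟶ F} {f' : F' ⟶ G'} {f : F ⟶ G}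
    {g : G' ⟶ G} (sq : IsPullback fst f' f g) (hf : IsQuasiCompactMor f) : IsQuasiCompactMor f' :=
  fun _ _ hZ hZc h fst' snd' sq' => hf hZ hZc (h ≫ g) (fst' ≫ fst) snd' (sq'.paste_horiz sq)

theorem isQuasiSeparatedMor_of_isPullback {F G F' G' : Sp S} {fst : F' ⟶ F} {f' : F' ⟶ G'} {f : F ⟶ G}
    {g : G' ⟶ G} (sq : IsPullback fst f' f g) (hf : IsQuasiSeparatedMor f) : IsQuasiSeparatedMor f' :=
  MorphismProperty.of_isPullback (P := (RepWith (S := S) @QuasiCompact).diagonal) sq hf

theorem mono_yon_of_openImmersion {V W : Over S} (j : V ⟶ W) [IsOpenImmersion j.left] :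
    Mono ((yon S).map j) := by
  haveI : Mono ((Over.forget S).map j) := inferInstanceAs (Mono j.left)
  haveI : Mono j := (Over.forget S).mono_of_mono_map ‹_›
  exact (yon S).map_mono j

theorem hom_ext_of_isEmpty {V : Over S} [IsEmpty V.left] {F : Sp S} (a b : (yon S).obj V ⟶ F) : a = b :=
  hom_ext_of_cover (κ := PEmpty.{u + 1}) (C := fun i => i.elim) (fun i => i.elim)
    (ofArrows_mem_J _ (fun i => i.elim) (fun i => i.elim) (fun t => isEmptyElim t)) (fun i => i.elim)

/-- The normalization over a scheme with an open covering by summands. -/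
theorem exists_normalization_atlas {Y X : Sp S} (hY : IsAlgSpace Y) (hX : IsAlgSpace X) (f : Y ⟶ X)
    (hqc : IsQuasiCompactMor f) (hqs : IsQuasiSeparatedMor f) :
    ∃ (U : Over S) (p : (yon S).obj U ⟶ X), RepWith @Etale p ∧ RepWith @Surjective p ∧
      ∃ (N : Over S) (ν : N ⟶ U) (f' : pullback f p ⟶ (yon S).obj N), IsIntegralHom ν.left ∧
        f' ≫ (yon S).map ν = pullback.snd f p ∧ ∀ (W : Over S) (w : W ⟶ U), Smooth w.left →
          FullAt (pullback.snd f p) ((yon S).map ν) f' ((yon S).map w) := by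
  obtain ⟨U₀, p₀, hpe, hps⟩ := hX.atlas
  let I := {O : U₀.left.Opens // IsAffineOpen O}
  let σ : ∀ i : I, Spec (CommRingCat.of Γ(U₀.left, i.1)) ⟶ S := fun i => i.2.fromSpec ≫ U₀.hom
  let U : Over S := Over.mk (Sigma.desc σ)
  let j : ∀ i, Over.mk (σ i) ⟶ U := fun i =>
    Over.homMk (Sigma.ι (fun i : I => Spec (CommRingCat.of Γ(U₀.left, i.1))) i) (Sigma.ι_desc _ _)
  have hj : ∀ i, IsOpenImmersion (j i).left := fun i =>
    inferInstanceAs (IsOpenImmersion (Sigma.ι (fun i : I => Spec (CommRingCat.of Γ(U₀.left, i.1))) i))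
  have hjs : ∀ t : U.left, ∃ i, t ∈ Set.range (j i).left := fun t =>
    ⟨_, (sigmaOpenCover fun i : I => Spec (CommRingCat.of Γ(U₀.left, i.1))).covers t⟩
  let q₀ : U.left ⟶ U₀.left := Sigma.desc fun i : I => i.2.fromSpec
  let q : U ⟶ U₀ := Over.homMk q₀ (Sigma.hom_ext _ _ fun i => by
    change Sigma.ι (fun i : I => Spec (CommRingCat.of Γ(U₀.left, i.1))) i ≫ q₀ ≫ U₀.hom =
      Sigma.ι (fun i : I => Spec (CommRingCat.of Γ(U₀.left, i.1))) i ≫ Sigma.desc σ
    rw [Sigma.ι_desc_assoc, Sigma.ι_desc])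
  haveI : Etale q.left := IsZariskiLocalAtSource.sigmaDesc fun i => inferInstanceAs (Etale i.2.fromSpec)
  haveI : Surjective q.left := ⟨fun x => by
    obtain ⟨V, hV, hxV, -⟩ := exists_isAffineOpen_mem_and_subset (x := x) (U := ⊤) trivial
    obtain ⟨z, hz⟩ : x ∈ Set.range hV.fromSpec := by rw [hV.range_fromSpec]; exact hxV
    refine ⟨(j ⟨V, hV⟩).left z, ?_⟩
    change (Sigma.ι (fun i : I => Spec (CommRingCat.of Γ(U₀.left, i.1))) ⟨V, hV⟩ ≫ q₀) z = x
    rw [Sigma.ι_desc]
    exact hz⟩
  let p : (yon S).obj U ⟶ X := (yon S).map q ≫ p₀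
  refine ⟨U, p, repWith_comp ((repWith_yon_map_iff _ _).2 ‹_›) hpe,
    repWith_comp ((repWith_yon_map_iff _ _).2 ‹_›) hps, ?_⟩
  have sg := IsPullback.of_hasPullback f p
  let g : pullback f p ⟶ (yon S).obj U := pullback.snd f p
  have hU : IsAlgSpace ((yon S).obj U) := IsAlgSpace.yon_obj _
  have hYU : IsAlgSpace (pullback f p) := isAlgSpace_pullback hX.diag hY hU _ _
  have sgi := fun i => IsPullback.of_hasPullback g ((yon S).map (j i))
  choose Ni νi fi hνi hfi hfull using fun i => exists_affine_normalization (σ i)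
    (Y := pullback g ((yon S).map (j i))) (isAlgSpace_pullback hU.diag hYU (IsAlgSpace.yon_obj _) _ _)
    (pullback.snd g ((yon S).map (j i)))
    (isQuasiCompactMor_of_isPullback (sgi i) (isQuasiCompactMor_of_isPullback sg hqc))
    (isQuasiSeparatedMor_of_isPullback (sgi i) (isQuasiSeparatedMor_of_isPullback sg hqs))
  let N : Over S := Over.mk (Sigma.desc fun i => (Ni i).hom)
  let k : ∀ i, Ni i ⟶ N := fun i => Over.homMk (Sigma.ι (fun i => (Ni i).left) i) (Sigma.ι_desc _ _)
  let ν₀ : N.left ⟶ U.left := Sigma.desc fun i => (νi i).left ≫ (j i).left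
  let ν : N ⟶ U := Over.homMk ν₀ (Sigma.hom_ext _ _ fun i => by
    change Sigma.ι (fun i => (Ni i).left) i ≫ ν₀ ≫ U.hom =
      Sigma.ι (fun i => (Ni i).left) i ≫ Sigma.desc fun i => (Ni i).hom
    rw [Sigma.ι_desc_assoc, Sigma.ι_desc, Category.assoc, Over.w (j i)]
    exact Over.w (νi i))
  have hk : ∀ i, (k i).left ≫ ν.left = (νi i).left ≫ (j i).left := fun i => Sigma.ι_desc _ _
  have sq₀ : ∀ i, IsPullback (νi i).left (k i).left (j i).left ν.left := fun i => by
    haveI := hj i
    haveI : IsOpenImmersion (k i).left :=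
      inferInstanceAs (IsOpenImmersion (Sigma.ι (fun i => (Ni i).left) i))
    refine IsOpenImmersion.isPullback _ _ _ _ (hk i) (TopologicalSpace.Opens.ext (Set.ext fun y => ?_))
    obtain ⟨i', z, hz⟩ : ∃ i' z, (k i').left z = y := ⟨_, (sigmaOpenCover fun i => (Ni i).left).covers y⟩
    subst hz
    constructor
    · rintro ⟨w, hw⟩
      rw [← Scheme.Hom.comp_apply, hk, Scheme.Hom.comp_apply] at hw
      have e := (sigmaι_eq_iff _ _ _ _ _).1 hw
      obtain ⟨rfl, -⟩ := Sigma.mk.inj_iff.1 e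
      exact ⟨z, rfl⟩
    · rintro ⟨w, hw⟩
      refine ⟨(νi i).left w, ?_⟩
      rw [← hw]
      exact (congrArg (fun t => t w) (hk i)).symm
  have sqN : ∀ i, IsPullback ((yon S).map (k i)) ((yon S).map (νi i)) ((yon S).map ν) ((yon S).map (j i)) :=
    fun i => (isPullback_of_left (sq₀ i).flip).map (yon S)
  have hνint : IsIntegralHom ν.left := by
    refine IsZariskiLocalAtTarget.of_openCover
      (sigmaOpenCover fun i : I => Spec (CommRingCat.of Γ(U₀.left, i.1))) fun i => ?_
    change IsIntegralHom (pullback.snd ν.left (j i).left)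
    exact (MorphismProperty.cancel_left_of_respectsIso @IsIntegralHom (sq₀ i).flip.isoPullback.hom _).1
      (by rw [(sq₀ i).flip.isoPullback_hom_snd]; exact hνi i)
  have hcov : Covers (fun i => pullback.fst g ((yon S).map (j i))) :=
    (covers_open j hj hjs).pullback sgi
  obtain ⟨f', hf', -⟩ := hcov.existsUnique_glue (Z := (yon S).obj N) (fun i => fi i ≫ (yon S).map (k i))
    fun i i' V x y hxy => by
      rcases eq_or_ne i i' with rfl | hne
      · haveI := hj i
        haveI := mono_yon_of_openImmersion (j i)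
        rw [show x = y from (cancel_mono _).1 hxy]
      · obtain ⟨x₀, hx₀⟩ := (yon S).map_surjective (x ≫ pullback.snd g ((yon S).map (j i)))
        obtain ⟨y₀, hy₀⟩ := (yon S).map_surjective (y ≫ pullback.snd g ((yon S).map (j i')))
        have e : x₀ ≫ j i = y₀ ≫ j i' := (yon S).map_injective (by
          rw [Functor.map_comp, Functor.map_comp, hx₀, hy₀, Category.assoc, Category.assoc, ← pullback.condition,
            ← pullback.condition, reassoc_of% hxy])
        haveI : IsEmpty V.left := isEmpty_of_commSq_sigmaι_of_ne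
          (g := fun i : I => Spec (CommRingCat.of Γ(U₀.left, i.1))) (a := x₀.left) (b := y₀.left)
          ⟨congrArg (fun t => t.left) e⟩ hne
        exact hom_ext_of_isEmpty _ _
  have hf'ν : f' ≫ (yon S).map ν = g := hcov.hom_ext fun i => by
    rw [reassoc_of% hf' i, (sqN i).w, reassoc_of% hfi i, pullback.condition]
  refine ⟨N, ν, f', hνint, hf'ν, fun W w hw => ?_⟩
  let c := fun i => pullback.fst w (j i)
  have hc : ∀ i, IsOpenImmersion (c i).left := fun i =>
    MorphismProperty.of_isPullback (P := @IsOpenImmersion)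
      ((IsPullback.of_hasPullback w (j i)).map (Over.forget S)).flip (hj i)
  refine fullAt_scheme (isIntegralMor_iff.2 ((repWith_yon_map_iff _ _).2 hνint)) _ c hc (fun t => ?_)
    fun W' v hW' hv ⟨i, hvi⟩ => ?_
  · obtain ⟨i, s, hs⟩ := hjs (w.left t)
    obtain ⟨z, hz, -⟩ := Scheme.exists_preimage_of_isPullback
      ((IsPullback.of_hasPullback w (j i)).map (Over.forget S)) t s hs.symm
    exact ⟨i, z, hz⟩
  haveI := hc i
  haveI := hj i
  let v₀ : W'.left ⟶ (pullback w (j i)).left := IsOpenImmersion.lift (c i).left v.left hvi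
  have hv₀ : v₀ ≫ (c i).left = v.left := IsOpenImmersion.lift_fac _ _ _
  let v' : W' ⟶ pullback w (j i) := Over.homMk v₀ (by
    rw [← Over.w (c i), reassoc_of% hv₀]; exact Over.w v)
  have e : (v' ≫ pullback.snd w (j i)) ≫ j i = v ≫ w := by
    rw [Category.assoc, ← pullback.condition, ← Category.assoc]
    exact congrArg (· ≫ w) (Over.OverMorphism.ext hv₀)
  have hsm : Smooth ((v' ≫ pullback.snd w (j i)) ≫ j i).left := by
    rw [e]; exact inferInstanceAs (Smooth (v.left ≫ w.left))
  have := (hfull i W' (v' ≫ pullback.snd w (j i)) hW'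
    (etLocal_smooth.of_postcomp _ _ inferInstance hsm)).of_isPullback
    (sgi i) (sqN i) (hfi i) (hf' i).symm
  rwa [← Functor.map_comp, e, Functor.map_comp] at this

end Groth.Agent.H12AlgSp.NormSp
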