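import Groth.Agent.H12AlgSp.NormSp.Covers
import Groth.Agent.H12AlgSp.AffineMor
import Groth.Prelude.Def_AlgSpMor5

/-!
The normalization property along maps to the base, and its local nature.
-/

set_option autoImplicit false
set_option linter.unusedVariables false

universe u

open CategoryTheory CategoryTheory.Limits AlgebraicGeometry Opposite
open AlgSp Groth.Agent.H13AlgSp

namespace Groth.Agent.H12AlgSp.NormSp

variable {S : Scheme.{u}} {Y X X' : Sp S}

/-- The normalization property after base change along `x`. -/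
def FullAt (f : Y ⟶ X) (ν : X' ⟶ X) (f' : Y ⟶ X') {T : Sp S} (x : T ⟶ X) : Prop :=
  ∀ ⦃P B : Sp S⦄ (pf : P ⟶ Y) (pT : P ⟶ T) (bX : B ⟶ X') (bT : B ⟶ T) (m : P ⟶ B),
    IsPullback pf pT f x → IsPullback bX bT ν x → m ≫ bX = pf ≫ f' → m ≫ bT = pT →
      IsRelNormalization pT bT m

/-- The uniqueness half of the normalization property after base change along `x`. -/
def UniqAt (f : Y ⟶ X) (ν : X' ⟶ X) (f' : Y ⟶ X') {T : Sp S} (x : T ⟶ X) : Prop :=
  ∀ ⦃P B : Sp S⦄ (pf : P ⟶ Y) (pT : P ⟶ T) (bX : B ⟶ X') (bT : B ⟶ T) (m : P ⟶ B),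
    IsPullback pf pT f x → IsPullback bX bT ν x → m ≫ bX = pf ≫ f' → m ≫ bT = pT →
      ∀ ⦃Z : Sp S⦄, IsAlgSpace Z → ∀ (π : Z ⟶ T), IsIntegralMor π → ∀ h h' : B ⟶ Z,
        h ≫ π = bT → h' ≫ π = bT → m ≫ h = m ≫ h' → h = h'

variable {f : Y ⟶ X} {ν : X' ⟶ X} {f' : Y ⟶ X'} {T : Sp S} {x : T ⟶ X}

theorem FullAt.uniqAt (h : FullAt f ν f' x) : UniqAt f ν f' x := by
  intro P B pf pT bX bT m sqY sqX hm hmT Z hZ π hπ k k' hk hk' e
  obtain ⟨k₀, -, hu⟩ := (h pf pT bX bT m sqY sqX hm hmT).2.2 hZ π (m ≫ k) hπ (by rw [Category.assoc, hk, hmT])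
  rw [hu k ⟨rfl, hk⟩, hu k' ⟨e.symm, hk'⟩]

theorem isIntegralMor_of_isPullback {F G F' G' : Sp S} {fst : F' ⟶ F} {f' : F' ⟶ G'} {f : F ⟶ G} {g : G' ⟶ G}
    (sq : IsPullback fst f' f g) (hf : IsIntegralMor f) : IsIntegralMor f' :=
  isIntegralMor_iff.2 (repWith_of_isPullback sq (isIntegralMor_iff.1 hf))

/-- Transport of a normalization along isomorphisms. -/
theorem isRelNormalization_congr {F G G' F₁ G₁ X₁ : Sp S} {f : F ⟶ G} {ν : G' ⟶ G} {f' : F ⟶ G'}
    (eF : F₁ ≅ F) (eG : G₁ ≅ G) (eX : X₁ ≅ G') {f₁ : F₁ ⟶ G₁} {ν₁ : X₁ ⟶ G₁} {f₁' : F₁ ⟶ X₁}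
    (h1 : f₁' ≫ eX.hom = eF.hom ≫ f') (h2 : ν₁ ≫ eG.hom = eX.hom ≫ ν) (h3 : f₁' ≫ ν₁ = f₁)
    (h : IsRelNormalization f ν f') : IsRelNormalization f₁ ν₁ f₁' := by
  obtain ⟨hf, hi, hu⟩ := h
  refine ⟨h3, isIntegralMor_of_isPullback
    (IsPullback.of_horiz_isIso ⟨h2.symm⟩) hi, fun Z hZ π g hπ hg => ?_⟩
  have hπ' : IsIntegralMor (π ≫ eG.hom) := isIntegralMor_of_isPullback
    (IsPullback.of_horiz_isIso (fst := 𝟙 Z) (g := eG.inv) ⟨by simp⟩) hπ
  obtain ⟨k, ⟨hk1, hk2⟩, huniq⟩ := hu hZ (π ≫ eG.hom) (eF.inv ≫ g) hπ' (by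
    rw [Category.assoc, reassoc_of% hg, ← h3, Category.assoc, h2, reassoc_of% h1, Iso.inv_hom_id_assoc, hf])
  refine ⟨eX.hom ≫ k, ⟨by rw [reassoc_of% h1, hk1, Iso.hom_inv_id_assoc], ?_⟩, fun l hl => ?_⟩
  · rw [← cancel_mono eG.hom, Category.assoc, Category.assoc, hk2, h2]
  · rw [← huniq (eX.inv ≫ l) ⟨?_, ?_⟩, Iso.hom_inv_id_assoc]
    · rw [← cancel_epi eF.hom, ← reassoc_of% h1, Iso.hom_inv_id_assoc, Iso.hom_inv_id_assoc, hl.1]
    · rw [Category.assoc, reassoc_of% hl.2, h2, Iso.inv_hom_id_assoc]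

/-- It suffices to check one choice of squares. -/
theorem FullAt.mk {P B : Sp S} {pf : P ⟶ Y} {pT : P ⟶ T} {bX : B ⟶ X'} {bT : B ⟶ T} {m : P ⟶ B}
    (sqY : IsPullback pf pT f x) (sqX : IsPullback bX bT ν x) (hm : m ≫ bX = pf ≫ f')
    (h : IsRelNormalization pT bT m) : FullAt f ν f' x := by
  intro P₁ B₁ pf₁ pT₁ bX₁ bT₁ m₁ sqY₁ sqX₁ hm₁ hmT₁
  refine isRelNormalization_congr (sqY₁.isoIsPullback _ _ sqY) (Iso.refl T) (sqX₁.isoIsPullback _ _ sqX) ?_ ?_ hmT₁ h
  · apply sqX.hom_ext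
    · simp [pullback.lift_fst, pullback.lift_fst_assoc, pullback.lift_snd, pullback.lift_snd_assoc, hm, hm₁]
    · simp [pullback.lift_fst, pullback.lift_fst_assoc, pullback.lift_snd, pullback.lift_snd_assoc, hmT₁, h.1]
  · simp

theorem fullAt_id_iff (hf : f' ≫ ν = f) : FullAt f ν f' (𝟙 X) ↔ IsRelNormalization f ν f' := by
  have sqY : IsPullback (𝟙 Y) f f (𝟙 X) := IsPullback.of_horiz_isIso ⟨by simp⟩
  have sqX : IsPullback (𝟙 X') ν ν (𝟙 X) := IsPullback.of_horiz_isIso ⟨by simp⟩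
  exact ⟨fun h => h _ _ _ _ f' sqY sqX (by simp) hf, fun h => FullAt.mk sqY sqX (by simp) h⟩

/-- Invariance under reparametrisation of the test object. -/
theorem FullAt.of_iso {T' : Sp S} (e : T' ≅ T) (h : FullAt f ν f' x) : FullAt f ν f' (e.hom ≫ x) := by
  intro P B pf pT bX bT m sqY sqX hm hmT
  have sqY' : IsPullback pf (pT ≫ e.hom) f x :=
    IsPullback.of_iso sqY (Iso.refl _) (Iso.refl _) e (Iso.refl _) (by simp) (by simp) (by simp) (by simp)
  have sqX' : IsPullback bX (bT ≫ e.hom) ν x :=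
    IsPullback.of_iso sqX (Iso.refl _) (Iso.refl _) e (Iso.refl _) (by simp) (by simp) (by simp) (by simp)
  exact isRelNormalization_congr (Iso.refl P) e (Iso.refl B) (by simp) (by simp) hmT
    (h pf _ bX _ m sqY' sqX' hm (by rw [reassoc_of% hmT]))

/-- The property for a base change gives the property for the original along composites. -/
theorem FullAt.of_isPullback {Y₀ X₀' X₀ : Sp S} {a : Y₀ ⟶ Y} {g₀ : Y₀ ⟶ X₀} {b : X₀' ⟶ X'} {ν₀ : X₀' ⟶ X₀}
    {c : X₀ ⟶ X} {f₀' : Y₀ ⟶ X₀'} (sqa : IsPullback a g₀ f c) (sqb : IsPullback b ν₀ ν c)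
    (h₁ : f₀' ≫ ν₀ = g₀) (h₂ : f₀' ≫ b = a ≫ f') {T' : Sp S} {y : T' ⟶ X₀}
    (h : FullAt g₀ ν₀ f₀' y) : FullAt f ν f' (y ≫ c) := by
  intro P B pf pT bX bT m sqY sqX hm hmT
  obtain ⟨p₀, hp₀, hp₁⟩ : ∃ p₀, p₀ ≫ a = pf ∧ p₀ ≫ g₀ = pT ≫ y :=
    ⟨sqa.lift pf (pT ≫ y) (by rw [sqY.w, Category.assoc]), sqa.lift_fst _ _ _, sqa.lift_snd _ _ _⟩
  obtain ⟨b₀, hb₀, hb₁⟩ : ∃ b₀, b₀ ≫ b = bX ∧ b₀ ≫ ν₀ = bT ≫ y :=
    ⟨sqb.lift bX (bT ≫ y) (by rw [sqX.w, Category.assoc]), sqb.lift_fst _ _ _, sqb.lift_snd _ _ _⟩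
  refine h p₀ pT b₀ bT m (IsPullback.of_right (by rwa [hp₀]) hp₁ sqa)
    (IsPullback.of_right (by rwa [hb₀]) hb₁ sqb) ?_ hmT
  apply sqb.hom_ext
  · rw [Category.assoc, hb₀, hm, Category.assoc, h₂, reassoc_of% hp₀]
  · rw [Category.assoc, hb₁, reassoc_of% hmT, Category.assoc, h₁, hp₁]

variable {ι : Type*} {T' : ι → Sp S} {d : ∀ k, T' k ⟶ T}

theorem uniqAt_of_cover (hd : Covers d) (hT : IsAlgSpace T) (hT' : ∀ k, IsAlgSpace (T' k))
    (h : ∀ k, UniqAt f ν f' (d k ≫ x)) : UniqAt f ν f' x := by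
  intro P B pf pT bX bT m sqY sqX hm hmT Z hZ π hπ k k' hk hk' e
  have hB : Covers (fun i => pullback.fst bT (d i)) := hd.pullback fun i => IsPullback.of_hasPullback bT (d i)
  refine hB.hom_ext fun i => ?_
  have sqZ := IsPullback.of_hasPullback π (d i)
  let k₁ := pullback.lift (pullback.fst bT (d i) ≫ k) (pullback.snd bT (d i))
    (f := π) (g := d i) (by rw [Category.assoc, hk, pullback.condition])
  let k₂ := pullback.lift (pullback.fst bT (d i) ≫ k') (pullback.snd bT (d i))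
    (f := π) (g := d i) (by rw [Category.assoc, hk', pullback.condition])
  have key := h i (pullback.fst pT (d i) ≫ pf) (pullback.snd pT (d i)) (pullback.fst bT (d i) ≫ bX)
    (pullback.snd bT (d i))
    (pullback.lift (pullback.fst pT (d i) ≫ m) (pullback.snd pT (d i))
      (by rw [Category.assoc, hmT, pullback.condition]))
    ((IsPullback.of_hasPullback pT (d i)).paste_horiz sqY)
    ((IsPullback.of_hasPullback bT (d i)).paste_horiz sqX)
    (by rw [pullback.lift_fst_assoc, Category.assoc, Category.assoc, hm])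
    (pullback.lift_snd _ _ _) (Z := pullback π (d i)) (isAlgSpace_pullback hT.diag hZ (hT' i) _ _)
    (pullback.snd π (d i)) (isIntegralMor_of_isPullback sqZ hπ) k₁ k₂ (pullback.lift_snd _ _ _)
    (pullback.lift_snd _ _ _) (by
      apply pullback.hom_ext
      · simp [pullback.lift_fst, pullback.lift_fst_assoc, pullback.lift_snd, pullback.lift_snd_assoc, k₁, k₂, e]
      · simp [pullback.lift_fst, pullback.lift_fst_assoc, pullback.lift_snd, pullback.lift_snd_assoc, k₁, k₂])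
  have := key =≫ pullback.fst π (d i)
  simpa [pullback.lift_fst, pullback.lift_fst_assoc, pullback.lift_snd, pullback.lift_snd_assoc, k₁, k₂] using this

theorem fullAt_of_cover (hν : IsIntegralMor ν) (hd : Covers d) (hT : IsAlgSpace T)
    (hT' : ∀ k, IsAlgSpace (T' k)) (h : ∀ k, FullAt f ν f' (d k ≫ x))
    (hR : ∀ i j, ∃ (R : Sp S) (r₁ : R ⟶ T' i) (r₂ : R ⟶ T' j),
      IsPullback r₁ r₂ (d i) (d j) ∧ IsAlgSpace R ∧ UniqAt f ν f' (r₁ ≫ d i ≫ x)) :
    FullAt f ν f' x := by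
  intro P B pf pT bX bT m sqY sqX hm hmT
  refine ⟨hmT, isIntegralMor_of_isPullback sqX hν, fun Z hZ π g hπ hg => ?_⟩
  have sP := fun i => IsPullback.of_hasPullback pT (d i)
  have sB := fun i => IsPullback.of_hasPullback bT (d i)
  have sZ := fun i => IsPullback.of_hasPullback π (d i)
  have hP : Covers (fun i => pullback.fst pT (d i)) := hd.pullback sP
  have hB : Covers (fun i => pullback.fst bT (d i)) := hd.pullback sB
  let mi := fun i => pullback.lift (pullback.fst pT (d i) ≫ m) (pullback.snd pT (d i))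
    (f := bT) (g := d i) (by rw [Category.assoc, hmT, pullback.condition])
  have hmi : ∀ i, mi i ≫ pullback.fst bT (d i) = pullback.fst pT (d i) ≫ m := fun i => pullback.lift_fst _ _ _
  have hmi' : ∀ i, mi i ≫ pullback.snd bT (d i) = pullback.snd pT (d i) := fun i => pullback.lift_snd _ _ _
  let gi := fun i => pullback.lift (pullback.fst pT (d i) ≫ g) (pullback.snd pT (d i))
    (f := π) (g := d i) (by rw [Category.assoc, hg, pullback.condition])
  have hN := fun i => h i _ _ _ _ (mi i) ((sP i).paste_horiz sqY) ((sB i).paste_horiz sqX)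
    (by rw [reassoc_of% hmi i, Category.assoc, hm]) (hmi' i)
  choose hi hhi hui using fun i => (hN i).2.2 (Z := pullback π (d i))
    (isAlgSpace_pullback hT.diag hZ (hT' i) _ _) (pullback.snd π (d i)) (gi i)
    (isIntegralMor_of_isPullback (sZ i) hπ) (pullback.lift_snd _ _ _)
  have hH := hB.existsUnique_glue (fun i => hi i ≫ pullback.fst π (d i)) ?_
  · obtain ⟨H, hH, -⟩ := hH
    refine ⟨H, ⟨hP.hom_ext fun i => ?_, hB.hom_ext fun i => ?_⟩, fun K hK => hB.hom_ext fun i => ?_⟩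
    · rw [← reassoc_of% hmi i, hH, reassoc_of% (hhi i).1]
      simp [pullback.lift_fst, pullback.lift_fst_assoc, pullback.lift_snd, pullback.lift_snd_assoc, gi]
    · rw [reassoc_of% hH i, pullback.condition, reassoc_of% (hhi i).2, pullback.condition]
    · rw [hH, ← hui i (pullback.lift (pullback.fst bT (d i) ≫ K) (pullback.snd bT (d i))
        (by rw [Category.assoc, hK.2, pullback.condition])) ⟨?_, pullback.lift_snd _ _ _⟩, pullback.lift_fst]
      apply pullback.hom_ext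
      · simp [pullback.lift_fst, pullback.lift_fst_assoc, pullback.lift_snd, pullback.lift_snd_assoc, gi, reassoc_of% hmi i, hK.1]
      · simp [pullback.lift_fst, pullback.lift_fst_assoc, pullback.lift_snd, pullback.lift_snd_assoc, gi, hmi' i]
  intro i j V u v huv
  obtain ⟨R, r₁, r₂, sqR, hRa, hRu⟩ := hR i j
  obtain ⟨r, hr₁, hr₂⟩ : ∃ r : (yon S).obj V ⟶ R, r ≫ r₁ = u ≫ pullback.snd _ _ ∧ r ≫ r₂ = v ≫ pullback.snd _ _ :=
    ⟨sqR.lift _ _ (by rw [Category.assoc, Category.assoc, ← pullback.condition, ← pullback.condition,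
      reassoc_of% huv]), sqR.lift_fst _ _ _, sqR.lift_snd _ _ _⟩
  let dR : R ⟶ T := r₁ ≫ d i
  have sPR := IsPullback.of_hasPullback pT dR
  have sBR := IsPullback.of_hasPullback bT dR
  have sZR := IsPullback.of_hasPullback π dR
  have hdR : dR = r₂ ≫ d j := sqR.w
  let qi : pullback bT dR ⟶ pullback bT (d i) := pullback.lift (pullback.fst _ _) (pullback.snd _ _ ≫ r₁)
    (by rw [Category.assoc, ← pullback.condition])
  let qj : pullback bT dR ⟶ pullback bT (d j) := pullback.lift (pullback.fst _ _) (pullback.snd _ _ ≫ r₂)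
    (by rw [Category.assoc, ← hdR, ← pullback.condition])
  have ei : qi ≫ hi i ≫ pullback.fst π (d i) ≫ π = pullback.fst bT dR ≫ bT := by
    rw [pullback.condition, reassoc_of% (hhi i).2, ← pullback.condition, pullback.lift_fst_assoc]
  have ej : qj ≫ hi j ≫ pullback.fst π (d j) ≫ π = pullback.fst bT dR ≫ bT := by
    rw [pullback.condition, reassoc_of% (hhi j).2, ← pullback.condition, pullback.lift_fst_assoc]
  let ki : pullback bT dR ⟶ pullback π dR := pullback.lift (qi ≫ hi i ≫ pullback.fst π (d i)) (pullback.snd _ _)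
    (by rw [Category.assoc, Category.assoc, ei, pullback.condition])
  let kj : pullback bT dR ⟶ pullback π dR := pullback.lift (qj ≫ hi j ≫ pullback.fst π (d j)) (pullback.snd _ _)
    (by rw [Category.assoc, Category.assoc, ej, pullback.condition])
  let mR : pullback pT dR ⟶ pullback bT dR := pullback.lift (pullback.fst _ _ ≫ m) (pullback.snd _ _)
    (by rw [Category.assoc, hmT, pullback.condition])
  let ni : pullback pT dR ⟶ pullback pT (d i) := pullback.lift (pullback.fst _ _) (pullback.snd _ _ ≫ r₁)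
    (by rw [Category.assoc, ← pullback.condition])
  let nj : pullback pT dR ⟶ pullback pT (d j) := pullback.lift (pullback.fst _ _) (pullback.snd _ _ ≫ r₂)
    (by rw [Category.assoc, ← hdR, ← pullback.condition])
  have hni : mR ≫ qi = ni ≫ mi i := by apply pullback.hom_ext <;> simp [pullback.lift_fst, pullback.lift_fst_assoc, pullback.lift_snd, pullback.lift_snd_assoc, mR, qi, ni, mi]
  have hnj : mR ≫ qj = nj ≫ mi j := by apply pullback.hom_ext <;> simp [pullback.lift_fst, pullback.lift_fst_assoc, pullback.lift_snd, pullback.lift_snd_assoc, mR, qj, nj, mi]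
  have key := hRu _ _ _ _ mR (sPR.paste_horiz sqY) (sBR.paste_horiz sqX)
    (by simp [pullback.lift_fst, pullback.lift_fst_assoc, pullback.lift_snd, pullback.lift_snd_assoc, mR, hm]) (pullback.lift_snd _ _ _) (Z := pullback π dR)
    (isAlgSpace_pullback hT.diag hZ hRa _ _) (pullback.snd π dR) (isIntegralMor_of_isPullback sZR hπ) ki kj
    (pullback.lift_snd _ _ _) (pullback.lift_snd _ _ _) (by
      apply pullback.hom_ext
      · simp only [ki, kj, Category.assoc, pullback.lift_fst]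
        rw [reassoc_of% hni, reassoc_of% hnj, reassoc_of% (hhi i).1, reassoc_of% (hhi j).1]
        simp [pullback.lift_fst, pullback.lift_fst_assoc, pullback.lift_snd, pullback.lift_snd_assoc, gi, ni, nj]
      · simp [pullback.lift_fst, pullback.lift_fst_assoc, pullback.lift_snd, pullback.lift_snd_assoc, ki, kj])
  obtain ⟨w, hwi, hwj⟩ : ∃ w : (yon S).obj V ⟶ pullback bT dR, w ≫ qi = u ∧ w ≫ qj = v := by
    refine ⟨pullback.lift (u ≫ pullback.fst _ _) r (by
      rw [Category.assoc, pullback.condition, ← reassoc_of% hr₁]), ?_, ?_⟩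
    · apply pullback.hom_ext <;> simp [pullback.lift_fst, pullback.lift_fst_assoc, pullback.lift_snd, pullback.lift_snd_assoc, qi, hr₁]
    · apply pullback.hom_ext <;> simp [pullback.lift_fst, pullback.lift_fst_assoc, pullback.lift_snd, pullback.lift_snd_assoc, qj, hr₂]
      exact huv
  have := w ≫= key =≫ pullback.fst π dR
  simp only [ki, kj, Category.assoc, pullback.lift_fst] at this
  rw [← hwi, ← hwj]
  simpa only [Category.assoc] using this

end Groth.Agent.H12AlgSp.NormSp
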