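import Groth.Agent.H12AlgSp.NormSp.AffineRing
import Groth.Agent.H12AlgSp.NormSp.Local
import Groth.Agent.H12AlgSp.QC
import Mathlib.RingTheory.Smooth.Flat
import Mathlib.AlgebraicGeometry.Morphisms.Smooth

/-!
The normalization of an affine scheme in a quasi-compact quasi-separated algebraic space over it.
-/

set_option autoImplicit false
set_option linter.style.haveILetI false

universe u

open CategoryTheory CategoryTheory.Limits AlgebraicGeometry
open AlgSp Groth.Agent.H13AlgSp
open scoped TensorProduct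

namespace Groth.Agent.H12AlgSp.NormSp

variable {S : Scheme.{u}} {R : Type u} [CommRing R] (σ : Spec (CommRingCat.of R) ⟶ S)

/-- An affine scheme over `S` through `σ`. -/
noncomputable abbrev specOver (A : Type u) [CommRing A] [Algebra R A] : Over S :=
  Over.mk (Spec.map (CommRingCat.ofHom (algebraMap R A)) ≫ σ)

/-- Its structure map. -/
noncomputable abbrev specHom (A : Type u) [CommRing A] [Algebra R A] : specOver σ A ⟶ Over.mk σ :=
  Over.homMk (Spec.map (CommRingCat.ofHom (algebraMap R A))) rfl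

/-- The map attached to an algebra map. -/
noncomputable abbrev specAlgHom {A B : Type u} [CommRing A] [CommRing B] [Algebra R A] [Algebra R B]
    (φ : A →ₐ[R] B) : specOver σ B ⟶ specOver σ A :=
  Over.homMk (Spec.map (CommRingCat.ofHom φ.toRingHom)) (by
    dsimp
    rw [← Spec.map_comp_assoc]
    exact congrArg (fun t => Spec.map t ≫ σ) (CommRingCat.hom_ext (RingHom.ext fun r => φ.commutes r)))

theorem exists_spec_over {V : Over S} [IsAffine V.left] (v : V ⟶ Over.mk σ) :
    ∃ (A : Type u) (_ : CommRing A) (_ : Algebra R A) (e : specOver σ A ≅ V), e.hom ≫ v = specHom σ A := by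
  let ψ : CommRingCat.of R ⟶ Γ(V.left, ⊤) := Spec.preimage (V.left.isoSpec.inv ≫ v.left)
  letI : Algebra R Γ(V.left, ⊤) := ψ.hom.toAlgebra
  have hψ : Spec.map (CommRingCat.ofHom (algebraMap R Γ(V.left, ⊤))) = V.left.isoSpec.inv ≫ v.left :=
    Spec.map_preimage _
  refine ⟨Γ(V.left, ⊤), inferInstance, inferInstance,
    Over.isoMk V.left.isoSpec.symm ?_, Over.OverMorphism.ext hψ.symm⟩
  dsimp
  rw [hψ, Category.assoc]
  exact congrArg (V.left.isoSpec.inv ≫ ·) (Over.w v).symm

theorem exists_algHom {A B : Type u} [CommRing A] [CommRing B] [Algebra R A] [Algebra R B]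
    (h : specOver σ B ⟶ specOver σ A) (hh : h ≫ specHom σ A = specHom σ B) :
    ∃ φ : A →ₐ[R] B, specAlgHom σ φ = h := by
  have e : Spec.map (Spec.preimage h.left) = h.left := Spec.map_preimage _
  have hh' : h.left ≫ Spec.map (CommRingCat.ofHom (algebraMap R A)) = Spec.map (CommRingCat.ofHom (algebraMap R B)) :=
    congrArg (fun t => t.left) hh
  rw [← e, ← Spec.map_comp] at hh'
  exact ⟨{ toRingHom := (Spec.preimage h.left).hom
           commutes' := fun r => RingHom.congr_fun (congrArg CommRingCat.Hom.hom (Spec.map_injective hh')) r },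
    Over.OverMorphism.ext e⟩

theorem isPullback_of_left {P A B C : Over S} {fst : P ⟶ A} {snd : P ⟶ B} {f : A ⟶ C} {g : B ⟶ C}
    (h : IsPullback fst.left snd.left f.left g.left) : IsPullback fst snd f g :=
  IsPullback.of_map (Over.forget S) (Over.OverMorphism.ext h.w) h

theorem exists_affine_cover {X : Over S} [CompactSpace X.left] :
    ∃ (E : Over S) (π : E ⟶ X), IsAffine E.left ∧ Etale π.left ∧ Surjective π.left := by
  obtain ⟨t, ht⟩ := isCompact_univ.elim_finite_subcover (fun U : X.left.affineOpens => (U.1 : Set X.left))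
    (fun U => U.1.isOpen) (fun x _ => by
      obtain ⟨V, hV, hxV, -⟩ := exists_isAffineOpen_mem_and_subset (x := x) (U := ⊤) trivial
      exact Set.mem_iUnion.2 ⟨⟨V, hV⟩, hxV⟩)
  let q : (∐ fun U : t => U.1.1.toScheme) ⟶ X.left := Sigma.desc fun U => U.1.1.ι
  have : ∀ U : t, IsAffine U.1.1.toScheme := fun U => U.1.2
  refine ⟨Over.mk (q ≫ X.hom), Over.homMk q rfl, inferInstanceAs (IsAffine (∐ fun U : t => U.1.1.toScheme)),
    IsZariskiLocalAtSource.sigmaDesc fun U => inferInstanceAs (Etale U.1.1.ι), ⟨fun x => ?_⟩⟩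
  obtain ⟨U, hU, hxU⟩ : ∃ U ∈ t, x ∈ (U.1 : Set X.left) := by simpa using ht (Set.mem_univ x)
  refine ⟨(Sigma.ι (fun U : t => U.1.1.toScheme) ⟨U, hU⟩) ⟨x, hxU⟩, ?_⟩
  change (Sigma.ι (fun U : t => U.1.1.toScheme) ⟨U, hU⟩ ≫ q) ⟨x, hxU⟩ = x
  rw [Sigma.ι_desc]
  rfl

variable {Y : Sp S}

/-- The normalization of an affine scheme, with its property after smooth base change. -/
theorem exists_affine_normalization (hY : IsAlgSpace Y) (g : Y ⟶ (yon S).obj (Over.mk σ))
    (hqc : IsQuasiCompactMor g) (hqs : IsQuasiSeparatedMor g) :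
    ∃ (N : Over S) (νN : N ⟶ Over.mk σ) (f' : Y ⟶ (yon S).obj N), IsIntegralHom νN.left ∧
      f' ≫ (yon S).map νN = g ∧ ∀ (W : Over S) (w : W ⟶ Over.mk σ), IsAffine W.left → Smooth w.left →
        FullAt g ((yon S).map νN) f' ((yon S).map w) := by
  haveI : IsAffine (Over.mk σ).left := inferInstanceAs (IsAffine (Spec (CommRingCat.of R)))
  have hU : IsAlgSpace ((yon S).obj (Over.mk σ)) := IsAlgSpace.yon_obj _
  have hYc : IsQuasiCompactSp Y := hqc hU (isQuasiCompactSp_yon_iff.2 inferInstance) (𝟙 _) (𝟙 _) g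
    (IsPullback.of_horiz_isIso ⟨by simp⟩)
  haveI := compactSpace_points_of_isQuasiCompactSp hYc
  obtain ⟨V₀, p₀, hV₀, hp₀e, hp₀s⟩ := exists_affine_atlas hY
  obtain ⟨v₀, hv₀⟩ := (yon S).map_surjective (p₀ ≫ g)
  obtain ⟨A, iA, iRA, eA, heA⟩ := exists_spec_over σ v₀
  let p : (yon S).obj (specOver σ A) ⟶ Y := (yon S).map eA.hom ≫ p₀
  have hpe : RepWith @Etale p := repWith_comp (repWith_of_isIso _) hp₀e
  have hps : RepWith @Surjective p := repWith_comp (repWith_of_isIso _) hp₀s
  have hpg : p ≫ g = (yon S).map (specHom σ A) := by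
    rw [Category.assoc, ← hv₀, ← Functor.map_comp, heA]
  have hcov : Covers (fun _ : PUnit.{u + 1} => p) := covers_single hpe hps
  obtain ⟨K, k₁, k₂, sqK⟩ := hY.representable_from_yon p p
  obtain ⟨k₂, rfl⟩ := (yon S).map_surjective k₂

  have hKc : CompactSpace K.left := by
    have hd : RepWith @QuasiCompact (pullback.map p p (p ≫ g) (p ≫ g) (𝟙 _) (𝟙 _) g
        (Category.id_comp _).symm (Category.id_comp _).symm) :=
      repWith_of_isPullback (pullback_map_diagonal_isPullback p p g) hqs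
    let w : specOver σ A ⟶ Over.mk σ := specHom σ A
    obtain ⟨c, hc⟩ : ∃ c : K ⟶ pullback w w, (yon S).map c =
        sqK.isoPullback.hom ≫ pullback.map p p (p ≫ g) (p ≫ g) (𝟙 _) (𝟙 _) g
          (Category.id_comp _).symm (Category.id_comp _).symm ≫
        (pullback.congrHom hpg hpg).hom ≫ (PreservesPullback.iso (yon S) w w).inv :=
      (yon S).map_surjective _
    have hc' : RepWith @QuasiCompact ((yon S).map c) := by
      rw [hc]
      exact repWith_comp (repWith_of_isIso _) (repWith_comp hd (repWith_of_isIso _))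
    haveI : QuasiCompact c.left := (repWith_yon_map_iff _ c).1 hc'
    have sqV := (IsPullback.of_hasPullback w w).map (Over.forget S)
    haveI : CompactSpace (pullback w w).left := by
      haveI : IsAffine (specOver σ A).left := inferInstanceAs (IsAffine (Spec (CommRingCat.of A)))
      haveI : IsAffine (Limits.pullback ((Over.forget S).map w) ((Over.forget S).map w)) :=
        inferInstanceAs (IsAffine (Limits.pullback (Spec.map (CommRingCat.ofHom (algebraMap R A)))
          (Spec.map (CommRingCat.ofHom (algebraMap R A)))))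
      exact (sqV.isoPullback).symm.hom.homeomorph.compactSpace
    exact QuasiCompact.compactSpace_of_compactSpace c.left
  obtain ⟨E₀, π₀, hE₀, hπe, hπs⟩ := exists_affine_cover (X := K)
  obtain ⟨B, iB, iRB, eB, heB⟩ := exists_spec_over σ (π₀ ≫ k₁ ≫ specHom σ A)
  let π : specOver σ B ⟶ K := eB.hom ≫ π₀
  have hπcov : Covers (fun _ : PUnit.{u + 1} => (yon S).map π) := by
    refine covers_single ((repWith_yon_map_iff _ _).2 ?_) ((repWith_yon_map_iff _ _).2 ?_)
    · exact inferInstanceAs (Etale (eB.hom.left ≫ π₀.left))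
    · exact inferInstanceAs (Surjective (eB.hom.left ≫ π₀.left))


  obtain ⟨a, ha⟩ := exists_algHom σ (π ≫ k₁) (by rw [Category.assoc, Category.assoc, heB])
  have hk : k₂ ≫ specHom σ A = k₁ ≫ specHom σ A := (yon S).map_injective (by
    rw [Functor.map_comp, Functor.map_comp, ← hpg, reassoc_of% sqK.w])
  obtain ⟨b, hb⟩ := exists_algHom σ (π ≫ k₂) (by rw [Category.assoc, Category.assoc, hk, heB])
  let C := eqClosure a b
  have hCab : specAlgHom σ a ≫ specAlgHom σ C.val = specAlgHom σ b ≫ specAlgHom σ C.val := by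
    refine Over.OverMorphism.ext ?_
    change Spec.map _ ≫ Spec.map _ = Spec.map _ ≫ Spec.map _
    rw [← Spec.map_comp, ← Spec.map_comp]
    exact congrArg _ (CommRingCat.hom_ext (RingHom.ext fun x => ((mem_eqClosure a b).1 x.2).1))
  obtain ⟨f', hf', -⟩ := hcov.existsUnique_glue (Z := (yon S).obj (specOver σ C))
    (fun _ => (yon S).map (specAlgHom σ C.val)) (fun _ _ T x y hxy => by
      obtain ⟨r, hr₂, hr₁⟩ : ∃ r, r ≫ (yon S).map k₂ = x ∧ r ≫ (yon S).map k₁ = y :=
        ⟨sqK.lift x y hxy, sqK.lift_fst _ _ _, sqK.lift_snd _ _ _⟩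
      rw [← hr₂, ← hr₁, Category.assoc, Category.assoc]
      refine congrArg (r ≫ ·) (hπcov.hom_ext fun _ => ?_)
      rw [← Functor.map_comp, ← Functor.map_comp, ← Functor.map_comp, ← Functor.map_comp,
        ← Category.assoc, ← Category.assoc, ← ha, ← hb, hCab])
  have hf'' : p ≫ f' = (yon S).map (specAlgHom σ C.val) := hf' ⟨⟩
  have hspec : ∀ {A₁ A₂ : Type u} [CommRing A₁] [CommRing A₂] [Algebra R A₁] [Algebra R A₂] (φ : A₁ →ₐ[R] A₂),
      specAlgHom σ φ ≫ specHom σ A₁ = specHom σ A₂ := fun φ => by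
    refine Over.OverMorphism.ext ?_
    change Spec.map _ ≫ Spec.map _ = Spec.map _
    rw [← Spec.map_comp]
    exact congrArg _ (CommRingCat.hom_ext (RingHom.ext fun r => φ.commutes r))
  have hf'ν : f' ≫ (yon S).map (specHom σ C) = g := hcov.hom_ext fun _ => by
    rw [← Category.assoc, hf'', ← Functor.map_comp, hspec, hpg]
  refine ⟨specOver σ C, specHom σ C, f', IsIntegralHom.SpecMap_iff.2 ?_, hf'ν, fun W w hW hw => ?_⟩
  · intro x
    exact (isIntegral_eqClosure a b).isIntegral x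
  haveI := hW
  obtain ⟨R', iR', iRR', eW, heW⟩ := exists_spec_over σ w
  suffices hfull : FullAt g ((yon S).map (specHom σ C)) f' ((yon S).map (specHom σ R')) by
    have := hfull.of_iso ((yon S).mapIso eW.symm)
    rwa [Functor.mapIso_hom, ← Functor.map_comp, ← heW, Iso.symm_hom, Iso.inv_hom_id_assoc] at this
  haveI : Smooth (Spec.map (CommRingCat.ofHom (algebraMap R R'))) := by
    change Smooth (specHom σ R').left
    rw [← heW]
    exact inferInstanceAs (Smooth (eW.hom.left ≫ w.left))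
  haveI : Algebra.Smooth R R' :=
    RingHom.smooth_algebraMap.1 ((HasRingHomProperty.Spec_iff (P := @Smooth)).1 ‹_›)
  haveI : Module.Flat R R' := Algebra.Smooth.flat R R'
  let σ' : Spec (CommRingCat.of R') ⟶ S := Spec.map (CommRingCat.ofHom (algebraMap R R')) ≫ σ
  let ι : ∀ (A₁ : Type u) [CommRing A₁] [Algebra R A₁], specOver σ' (R' ⊗[R] A₁) ⟶ specOver σ A₁ :=
    fun A₁ => Over.homMk
      (Spec.map (CommRingCat.ofHom (Algebra.TensorProduct.includeRight (R := R) (A := R') (B := A₁)).toRingHom))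
      ((isPullback_spec_tensor R' A₁).w_assoc σ)
  let β : ∀ (A₁ : Type u) [CommRing A₁] [Algebra R A₁], specOver σ' (R' ⊗[R] A₁) ⟶ specOver σ R' :=
    fun A₁ => specHom σ' (R' ⊗[R] A₁)
  have sqB : ∀ (A₁ : Type u) [CommRing A₁] [Algebra R A₁], IsPullback ((yon S).map (ι A₁))
      ((yon S).map (β A₁)) ((yon S).map (specHom σ A₁)) ((yon S).map (specHom σ R')) :=
    fun A₁ => (isPullback_of_left (fst := ι A₁) (snd := β A₁) (f := specHom σ A₁) (g := specHom σ R')
      (isPullback_spec_tensor R' A₁)).map (yon S)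
  let μ : ∀ {A₁ A₂ : Type u} [CommRing A₁] [CommRing A₂] [Algebra R A₁] [Algebra R A₂] (φ : A₁ →ₐ[R] A₂),
      specOver σ' (R' ⊗[R] A₂) ⟶ specOver σ' (R' ⊗[R] A₁) := fun φ =>
    Over.homMk (specMapId R' φ) ((reassoc_of% specMapId_base R' φ) σ')
  have hμι : ∀ {A₁ A₂ : Type u} [CommRing A₁] [CommRing A₂] [Algebra R A₁] [Algebra R A₂] (φ : A₁ →ₐ[R] A₂),
      μ φ ≫ ι A₁ = ι A₂ ≫ specAlgHom σ φ := fun φ => Over.OverMorphism.ext (specMapId_fst R' φ)
  have hμβ : ∀ {A₁ A₂ : Type u} [CommRing A₁] [CommRing A₂] [Algebra R A₁] [Algebra R A₂] (φ : A₁ →ₐ[R] A₂),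
      μ φ ≫ β A₁ = β A₂ := fun φ => Over.OverMorphism.ext (specMapId_base R' φ)
  have sP := IsPullback.of_hasPullback g ((yon S).map (specHom σ R'))
  let c : (yon S).obj (specOver σ' (R' ⊗[R] A)) ⟶ pullback g ((yon S).map (specHom σ R')) :=
    pullback.lift ((yon S).map (ι A) ≫ p) ((yon S).map (β A)) (by rw [Category.assoc, hpg]; exact (sqB A).w)
  have hc1 : c ≫ pullback.fst _ _ = (yon S).map (ι A) ≫ p := pullback.lift_fst _ _ _
  have hc2 : c ≫ pullback.snd _ _ = (yon S).map (β A) := pullback.lift_snd _ _ _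
  have hccov : Covers (fun _ : PUnit.{u + 1} => c) := hcov.pullback fun _ =>
    (IsPullback.of_bot (h₁₁ := (yon S).map (ι A)) (v₂₁ := pullback.snd _ _) (v₂₂ := g) (by
      rw [hc2, hpg]; exact sqB A) hc1.symm sP).flip
  let m : pullback g ((yon S).map (specHom σ R')) ⟶ (yon S).obj (specOver σ' (R' ⊗[R] C)) :=
    (sqB C).lift (pullback.fst _ _ ≫ f') (pullback.snd _ _) (by rw [Category.assoc, hf'ν, pullback.condition])
  have hm1 : m ≫ (yon S).map (ι C) = pullback.fst _ _ ≫ f' := (sqB C).lift_fst _ _ _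
  have hm2 : m ≫ (yon S).map (β C) = pullback.snd _ _ := (sqB C).lift_snd _ _ _
  have hcm : c ≫ m = (yon S).map (μ C.val) := by
    apply (sqB C).hom_ext
    · rw [Category.assoc, hm1, reassoc_of% hc1, hf'', ← Functor.map_comp, ← Functor.map_comp, hμι]
    · rw [Category.assoc, hm2, hc2, ← Functor.map_comp, hμβ]
  refine FullAt.mk sP (sqB C) hm1 ⟨hm2, ?_, fun Z hZ π' g' hπ' hg' => ?_⟩
  · exact isIntegralMor_of_isPullback (sqB C) (isIntegralMor_iff.2 ((repWith_yon_map_iff _ _).2
      (IsIntegralHom.SpecMap_iff.2 fun x => (isIntegral_eqClosure a b).isIntegral x)))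
  haveI : IsAffine (specOver σ R').left := inferInstanceAs (IsAffine (Spec (CommRingCat.of R')))
  obtain ⟨Z₀, i₀, j₀, sqZ, hZ₀, hi₀⟩ := hπ' inferInstance (𝟙 _)
  haveI : IsIso j₀ := sqZ.isIso_fst_of_isIso
  obtain ⟨D, iD, iR'D, eD, heD⟩ := exists_spec_over σ' (V := Z₀) i₀
  let j : (yon S).obj (specOver σ' D) ⟶ Z := (yon S).map eD.hom ≫ j₀
  have hj : j ≫ π' = (yon S).map (specHom σ' D) := by
    rw [Category.assoc, sqZ.w, Category.comp_id, ← Functor.map_comp, heD]
  haveI : Algebra.IsIntegral R' D := by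
    have : IsIntegralHom (specHom σ' D).left := by
      rw [← heD]; exact inferInstanceAs (IsIntegralHom (eD.hom.left ≫ i₀.left))
    exact ⟨IsIntegralHom.SpecMap_iff.1 this⟩
  obtain ⟨k₀, hk₀⟩ := (yon S).map_surjective (c ≫ g' ≫ inv j)
  have hk₀' : k₀ ≫ specHom σ' D = β A := (yon S).map_injective (by
    rw [Functor.map_comp, hk₀, ← hj, Category.assoc, Category.assoc, IsIso.inv_hom_id_assoc, hg']
    exact hc2)
  have heq : μ a ≫ k₀ = μ b ≫ k₀ := (yon S).map_injective (by
    rw [Functor.map_comp, Functor.map_comp, hk₀]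
    suffices h : (yon S).map (μ a) ≫ c = (yon S).map (μ b) ≫ c by rw [reassoc_of% h]
    apply pullback.hom_ext
    · have hμp : ∀ φ : A →ₐ[R] B, (yon S).map (μ φ) ≫ (yon S).map (ι A) ≫ p =
          (yon S).map (ι B) ≫ ((yon S).map (specAlgHom σ φ) ≫ p) := fun φ => by
        simp only [← Category.assoc, ← Functor.map_comp, hμι]
      have hab : (yon S).map (π ≫ k₁) ≫ p = (yon S).map (π ≫ k₂) ≫ p := by
        simp only [Functor.map_comp, Category.assoc, sqK.w]
      rw [Category.assoc, Category.assoc, hc1, hμp, hμp, ha, hb, hab]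
    · rw [Category.assoc, Category.assoc, hc2, ← Functor.map_comp, ← Functor.map_comp, hμβ, hμβ])
  obtain ⟨h₀, ⟨hh1, hh2⟩, huniq⟩ := existsUnique_spec a b R' k₀.left
    (congrArg (fun t => t.left) hk₀') (congrArg (fun t => t.left) heq)
  let h₁ : specOver σ' (R' ⊗[R] C) ⟶ specOver σ' D := Over.homMk h₀ ((reassoc_of% hh2) σ')
  have hμh : μ C.val ≫ h₁ = k₀ := Over.OverMorphism.ext hh1
  have hβh : h₁ ≫ specHom σ' D = β C := Over.OverMorphism.ext hh2
  refine ⟨(yon S).map h₁ ≫ j, ⟨hccov.hom_ext fun _ => ?_, ?_⟩, fun l hl => ?_⟩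
  · rw [reassoc_of% hcm, ← Functor.map_comp_assoc, hμh, hk₀, Category.assoc, Category.assoc,
      IsIso.inv_hom_id, Category.comp_id]
  · rw [Category.assoc, hj, ← Functor.map_comp, hβh]
  obtain ⟨l₀, hl₀⟩ := (yon S).map_surjective (l ≫ inv j)
  have e1 : μ C.val ≫ l₀ = k₀ := (yon S).map_injective (by
    rw [Functor.map_comp, hl₀, hk₀, ← hcm, Category.assoc, reassoc_of% hl.1])
  have e2 : l₀ ≫ specHom σ' D = β C := (yon S).map_injective (by
    rw [Functor.map_comp, hl₀, ← hj, Category.assoc, IsIso.inv_hom_id_assoc, hl.2])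
  have := huniq l₀.left ⟨congrArg (fun t => t.left) e1, congrArg (fun t => t.left) e2⟩
  rw [show h₁ = l₀ from Over.OverMorphism.ext this.symm, hl₀, Category.assoc, IsIso.inv_hom_id,
    Category.comp_id]

end Groth.Agent.H12AlgSp.NormSp
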