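import Groth.Agent.H12AlgSp.NormSp.Algebra
import Mathlib.AlgebraicGeometry.Pullbacks
import Mathlib.Algebra.Category.Ring.Constructions

/-!
Maps to integral affine schemes equalized by two maps, after smooth base change.
-/

set_option autoImplicit false

universe u

open CategoryTheory CategoryTheory.Limits AlgebraicGeometry
open scoped TensorProduct

namespace Groth.Agent.H12AlgSp.NormSp

variable {R A E : Type u} [CommRing R] [CommRing A] [CommRing E] [Algebra R A] [Algebra R E]
  (a b : A →ₐ[R] E) (R' : Type u) [CommRing R'] [Algebra R R']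

/-- Base change of an affine scheme. -/
theorem isPullback_spec_tensor (B : Type u) [CommRing B] [Algebra R B] :
    IsPullback (Spec.map (CommRingCat.ofHom (Algebra.TensorProduct.includeRight (R := R) (A := R') (B := B)).toRingHom))
      (Spec.map (CommRingCat.ofHom (algebraMap R' (R' ⊗[R] B))))
      (Spec.map (CommRingCat.ofHom (algebraMap R B))) (Spec.map (CommRingCat.ofHom (algebraMap R R'))) :=
  (isPullback_SpecMap_of_isPushout _ _ _ _ (CommRingCat.isPushout_tensorProduct R R' B)).flip

/-- The base change of `Spec` of an algebra map. -/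
noncomputable def specMapId {B B' : Type u} [CommRing B] [CommRing B'] [Algebra R B] [Algebra R B']
    (φ : B →ₐ[R] B') : Spec (CommRingCat.of (R' ⊗[R] B')) ⟶ Spec (CommRingCat.of (R' ⊗[R] B)) :=
  Spec.map (CommRingCat.ofHom (Algebra.TensorProduct.map (AlgHom.id R' R') φ).toRingHom)

theorem specMapId_base {B B' : Type u} [CommRing B] [CommRing B'] [Algebra R B] [Algebra R B'] (φ : B →ₐ[R] B') :
    specMapId R' φ ≫ Spec.map (CommRingCat.ofHom (algebraMap R' (R' ⊗[R] B))) =
      Spec.map (CommRingCat.ofHom (algebraMap R' (R' ⊗[R] B'))) := by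
  rw [specMapId, ← Spec.map_comp]
  refine congrArg _ (CommRingCat.hom_ext (RingHom.ext fun r => ?_))
  exact (Algebra.TensorProduct.map (AlgHom.id R' R') φ).commutes r

theorem specMapId_fst {B B' : Type u} [CommRing B] [CommRing B'] [Algebra R B] [Algebra R B'] (φ : B →ₐ[R] B') :
    specMapId R' φ ≫
        Spec.map (CommRingCat.ofHom (Algebra.TensorProduct.includeRight (R := R) (A := R') (B := B)).toRingHom) =
      Spec.map (CommRingCat.ofHom (Algebra.TensorProduct.includeRight (R := R) (A := R') (B := B')).toRingHom) ≫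
        Spec.map (CommRingCat.ofHom φ.toRingHom) := by
  rw [specMapId, ← Spec.map_comp, ← Spec.map_comp]
  refine congrArg _ (CommRingCat.hom_ext (RingHom.ext fun r => ?_))
  exact Algebra.TensorProduct.map_tmul (AlgHom.id R' R') φ 1 r

theorem existsUnique_spec [Algebra.Smooth R R'] [Module.Flat R R'] {C : Type u} [CommRing C] [Algebra R' C]
    [Algebra.IsIntegral R' C] (k : Spec (CommRingCat.of (R' ⊗[R] A)) ⟶ Spec (CommRingCat.of C))
    (hk : k ≫ Spec.map (CommRingCat.ofHom (algebraMap R' C)) =
      Spec.map (CommRingCat.ofHom (algebraMap R' (R' ⊗[R] A))))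
    (he : specMapId R' a ≫ k = specMapId R' b ≫ k) :
    ∃! h : Spec (CommRingCat.of (R' ⊗[R] eqClosure a b)) ⟶ Spec (CommRingCat.of C),
      specMapId R' (eqClosure a b).val ≫ h = k ∧
        h ≫ Spec.map (CommRingCat.ofHom (algebraMap R' C)) =
          Spec.map (CommRingCat.ofHom (algebraMap R' (R' ⊗[R] eqClosure a b))) := by
  obtain ⟨φ₀, rfl⟩ : ∃ φ₀, Spec.map φ₀ = k := ⟨Spec.preimage k, Spec.map_preimage k⟩
  rw [← Spec.map_comp] at hk
  rw [specMapId, specMapId, ← Spec.map_comp, ← Spec.map_comp] at he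
  have hk' := Spec.map_injective hk
  have he' := Spec.map_injective he
  let φ : C →ₐ[R'] R' ⊗[R] A :=
    { toRingHom := φ₀.hom
      commutes' := fun r => RingHom.congr_fun (congrArg CommRingCat.Hom.hom hk') r }
  obtain ⟨ψ, hψ, huniq⟩ := existsUnique_factor a b R' φ fun c =>
    RingHom.congr_fun (congrArg CommRingCat.Hom.hom he') c
  refine ⟨Spec.map (CommRingCat.ofHom ψ.toRingHom), ⟨?_, ?_⟩, fun h hh => ?_⟩
  · rw [specMapId, ← Spec.map_comp]
    exact congrArg _ (CommRingCat.hom_ext (RingHom.ext fun c => AlgHom.congr_fun hψ c))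
  · rw [← Spec.map_comp]
    exact congrArg _ (CommRingCat.hom_ext (RingHom.ext fun c => ψ.commutes c))
  obtain ⟨h₁, h₂⟩ := hh
  obtain ⟨ψ₀, rfl⟩ : ∃ ψ₀, Spec.map ψ₀ = h := ⟨Spec.preimage h, Spec.map_preimage h⟩
  rw [specMapId, ← Spec.map_comp] at h₁
  rw [← Spec.map_comp] at h₂
  let ψ' : C →ₐ[R'] R' ⊗[R] eqClosure a b :=
    { toRingHom := ψ₀.hom
      commutes' := fun r => RingHom.congr_fun (congrArg CommRingCat.Hom.hom (Spec.map_injective h₂)) r }
  have := huniq ψ' (AlgHom.ext fun c => RingHom.congr_fun (congrArg CommRingCat.Hom.hom (Spec.map_injective h₁)) c)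
  exact congrArg _ (CommRingCat.hom_ext (RingHom.ext fun c => AlgHom.congr_fun this c))

end Groth.Agent.H12AlgSp.NormSp
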