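import Mathlib.RingTheory.Smooth.IntegralClosure
import Mathlib.RingTheory.Flat.Basic

/-!
The integral closure inside an equalizer commutes with smooth base change.
-/

set_option autoImplicit false

universe u

open scoped TensorProduct

namespace Groth.Agent.H12AlgSp.NormSp

variable {R A E : Type u} [CommRing R] [CommRing A] [CommRing E] [Algebra R A] [Algebra R E]
  (a b : A →ₐ[R] E)

/-- The integral elements equalized by two maps. -/
def eqClosure : Subalgebra R A := AlgHom.equalizer a b ⊓ integralClosure R A

theorem mem_eqClosure {x : A} : x ∈ eqClosure a b ↔ a x = b x ∧ IsIntegral R x := Iff.rfl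

theorem isIntegral_eqClosure : Algebra.IsIntegral R (eqClosure a b) :=
  ⟨fun x => (isIntegral_algHom_iff (eqClosure a b).val Subtype.val_injective).1 x.2.2⟩

variable (R' : Type u) [CommRing R'] [Algebra R R']

/-- The inclusion after base change. -/
noncomputable def eqIncl : R' ⊗[R] eqClosure a b →ₐ[R'] R' ⊗[R] A :=
  Algebra.TensorProduct.map (AlgHom.id R' R') (eqClosure a b).val

theorem eqIncl_injective [Module.Flat R R'] : Function.Injective (eqIncl a b R') := by
  have h := Module.Flat.lTensor_preserves_injective_linearMap (M := R') (eqClosure a b).val.toLinearMap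
    Subtype.val_injective
  have e : ⇑(eqIncl a b R') = ⇑((eqClosure a b).val.toLinearMap.lTensor R') := by
    funext t
    induction t with
    | zero => simp
    | add x y hx hy => rw [map_add, map_add, hx, hy]
    | tmul x y => rfl
  rw [e]
  exact h

theorem mem_range_eqIncl [Algebra.Smooth R R'] [Module.Flat R R'] {x : R' ⊗[R] A} (hx : IsIntegral R' x)
    (he : Algebra.TensorProduct.map (AlgHom.id R' R') a x = Algebra.TensorProduct.map (AlgHom.id R' R') b x) :
    x ∈ (eqIncl a b R').range := by
  obtain ⟨z, hz⟩ := (TensorProduct.toIntegralClosure_bijective_of_smooth (R := R) (S := R') (B := A)).2 ⟨x, hx⟩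
  have hzx : Algebra.TensorProduct.map (AlgHom.id R' R') (integralClosure R A).val z = x := congrArg Subtype.val hz
  let d : integralClosure R A →ₗ[R] E := (a.toLinearMap - b.toLinearMap) ∘ₗ (integralClosure R A).val.toLinearMap
  let i : eqClosure a b →ₗ[R] integralClosure R A :=
    (Subalgebra.inclusion (inf_le_right : eqClosure a b ≤ integralClosure R A)).toLinearMap
  have hex : Function.Exact i d := fun y =>
    ⟨fun h => ⟨⟨y.1, sub_eq_zero.1 h, y.2⟩, rfl⟩, fun ⟨w, hw⟩ => hw ▸ sub_eq_zero.2 w.2.1⟩
  have hd : ∀ t, d.lTensor R' t =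
      Algebra.TensorProduct.map (AlgHom.id R' R') a (Algebra.TensorProduct.map (AlgHom.id R' R') (integralClosure R A).val t) -
      Algebra.TensorProduct.map (AlgHom.id R' R') b (Algebra.TensorProduct.map (AlgHom.id R' R') (integralClosure R A).val t) :=
    fun t => by
    induction t with
    | zero => simp
    | add x y hx hy =>
      simp only [map_add, hx, hy]
      abel
    | tmul x y => exact TensorProduct.tmul_sub x _ _
  obtain ⟨w, hw⟩ := (Module.Flat.lTensor_exact R' hex z).1 (by rw [hd, hzx, he, sub_self])
  refine ⟨w, ?_⟩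
  rw [← hzx, ← hw]
  show eqIncl a b R' w = _
  clear hw hzx
  induction w with
  | zero => simp
  | add x y hx hy => rw [map_add, map_add, map_add, hx, hy]
  | tmul x y => rfl

/-- Equalized maps from integral algebras factor uniquely. -/
theorem existsUnique_factor [Algebra.Smooth R R'] [Module.Flat R R'] {C : Type u} [CommRing C] [Algebra R' C]
    [Algebra.IsIntegral R' C] (φ : C →ₐ[R'] R' ⊗[R] A)
    (he : ∀ c, Algebra.TensorProduct.map (AlgHom.id R' R') a (φ c) =
      Algebra.TensorProduct.map (AlgHom.id R' R') b (φ c)) :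
    ∃! ψ : C →ₐ[R'] R' ⊗[R] eqClosure a b, (eqIncl a b R').comp ψ = φ := by
  let e := AlgEquiv.ofInjective (eqIncl a b R') (eqIncl_injective a b R')
  let φ' := φ.codRestrict _ fun c =>
    mem_range_eqIncl a b R' ((Algebra.IsIntegral.isIntegral (R := R') c).map φ) (he c)
  refine ⟨e.symm.toAlgHom.comp φ', AlgHom.ext fun c => ?_, fun ψ hψ => AlgHom.ext fun c => ?_⟩
  · exact congrArg Subtype.val (e.apply_symm_apply (φ' c))
  · apply eqIncl_injective a b R'
    exact ((AlgHom.congr_fun hψ c).trans
      (congrArg Subtype.val (e.apply_symm_apply (φ' c))).symm)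

end Groth.Agent.H12AlgSp.NormSp
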