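import Groth.Agent.H12AlgSp.NormSp.Construct

/-!
Existence of normalizations and their compatibility with smooth base change.
-/

set_option autoImplicit false
set_option linter.style.haveILetI false

universe u

open CategoryTheory CategoryTheory.Limits AlgebraicGeometry
open AlgSp Groth.Agent.H13AlgSp

namespace Groth.Agent.H12AlgSp.NormSp

variable {S : Scheme.{u}} {Y X X' : Sp S} {f : Y ⟶ X} {ν : X' ⟶ X} {f' : Y ⟶ X'}

/-- The property at all smooth schemes over an atlas gives it at all spaces smooth over the base. -/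
theorem fullAt_of_locP_smooth (hX : IsAlgSpace X) (hν : IsIntegralMor ν) {U : Over S} {p : (yon S).obj U ⟶ X}
    (hpe : RepWith @Etale p) (hps : RepWith @Surjective p)
    (hG : ∀ (W : Over S) (w : W ⟶ U), Smooth w.left → FullAt f ν f' ((yon S).map w ≫ p))
    {T : Sp S} (hT : IsAlgSpace T) (x : T ⟶ X) (hx : LocP @Smooth x) : FullAt f ν f' x := by
  obtain ⟨T₀, c, hce, hcs⟩ := hT.atlas
  obtain ⟨R, a, b, sq⟩ := hX.representable_from_yon p (c ≫ x)
  obtain ⟨b, rfl⟩ := (yon S).map_surjective b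
  haveI : Etale a.left := hpe.property _ _ a sq
  haveI : Surjective a.left := hps.property _ _ a sq
  let d : (yon S).obj R ⟶ T := (yon S).map a ≫ c
  have hde : RepWith @Etale d := repWith_comp ((repWith_yon_map_iff _ _).2 ‹_›) hce
  have hds : RepWith @Surjective d := repWith_comp ((repWith_yon_map_iff _ _).2 ‹_›) hcs
  have e : d ≫ x = (yon S).map b ≫ p := by rw [Category.assoc, sq.w]
  haveI hb : Smooth b.left := hx d p b hde hpe e
  refine fullAt_of_cover hν (covers_single hde hds) hT (fun _ => IsAlgSpace.yon_obj _)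
    (fun _ => fullAt_congr e.symm (hG R b hb)) fun _ _ => ?_
  obtain ⟨R₂, r₂, r₁', sq₂⟩ := hT.representable_from_yon d d
  obtain ⟨r₁, rfl⟩ := (yon S).map_surjective r₁'
  haveI : Etale r₁.left := hde.property _ _ r₁ sq₂.flip
  refine ⟨(yon S).obj R₂, (yon S).map r₁, (yon S).map r₂, sq₂, IsAlgSpace.yon_obj _,
    (fullAt_congr ?_ (hG R₂ (r₁ ≫ b) (inferInstanceAs (Smooth (r₁.left ≫ b.left))))).uniqAt⟩
  rw [Functor.map_comp, Category.assoc, e]

theorem locP_smooth_of_isEtaleMor {T : Sp S} {x : T ⟶ X} (h : IsEtaleMor x) : LocP @Smooth x :=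
  fun U V a b k ha hb e => by
    haveI := locP_etale_of_isEtaleMor h a b k ha hb e
    infer_instance

theorem locP_smooth_id (X : Sp S) : LocP @Smooth (𝟙 X) :=
  locP_smooth_of_isEtaleMor fun U φ h => by rwa [Category.comp_id]

/-- Normalizations exist. -/
theorem exists_isRelNormalization (hY : IsAlgSpace Y) (hX : IsAlgSpace X) (f : Y ⟶ X)
    (hqc : IsQuasiCompactMor f) (hqs : IsQuasiSeparatedMor f) :
    ∃ (Q : Sp S) (νQ : Q ⟶ X) (f₀ : Y ⟶ Q), IsAlgSpace Q ∧ IsRelNormalization f νQ f₀ ∧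
      ∀ {T : Sp S} (_ : IsAlgSpace T) (x : T ⟶ X), LocP @Smooth x → FullAt f νQ f₀ x := by
  obtain ⟨U, p, hpe, hps, Q, νQ, f₀, hQ, hν, hf, hG⟩ := exists_normalization hY hX f hqc hqs
  exact ⟨Q, νQ, f₀, hQ, (fullAt_id_iff hf).1 (fullAt_of_locP_smooth hX hν hpe hps hG hX _ (locP_smooth_id X)),
    fun hT x hx => fullAt_of_locP_smooth hX hν hpe hps hG hT x hx⟩

theorem exists_iso_of_isRelNormalization {Q : Sp S} {νQ : Q ⟶ X} {f₀ : Y ⟶ Q} (hX' : IsAlgSpace X')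
    (hQ : IsAlgSpace Q) (h : IsRelNormalization f ν f') (h₀ : IsRelNormalization f νQ f₀) :
    ∃ e : X' ≅ Q, f' ≫ e.hom = f₀ ∧ e.hom ≫ νQ = ν := by
  obtain ⟨hf, hi, hu⟩ := h
  obtain ⟨hf₀, hi₀, hu₀⟩ := h₀
  obtain ⟨k, ⟨hk1, hk2⟩, -⟩ := hu hQ νQ f₀ hi₀ hf₀
  obtain ⟨l, ⟨hl1, hl2⟩, -⟩ := hu₀ hX' ν f' hi hf
  obtain ⟨_, -, hid⟩ := hu hX' ν f' hi hf
  obtain ⟨_, -, hid₀⟩ := hu₀ hQ νQ f₀ hi₀ hf₀
  refine ⟨⟨k, l, ?_, ?_⟩, hk1, hk2⟩
  · rw [hid (k ≫ l) ⟨by rw [← Category.assoc, hk1, hl1], by rw [Category.assoc, hl2, hk2]⟩]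
    exact (hid (𝟙 X') ⟨Category.comp_id _, Category.id_comp _⟩).symm
  · rw [hid₀ (l ≫ k) ⟨by rw [← Category.assoc, hl1, hk1], by rw [Category.assoc, hk2, hl2]⟩]
    exact (hid₀ (𝟙 Q) ⟨Category.comp_id _, Category.id_comp _⟩).symm

theorem FullAt.congr_iso {Q : Sp S} {νQ : Q ⟶ X} {f₀ : Y ⟶ Q} (e : X' ≅ Q) (h1 : f' ≫ e.hom = f₀)
    (h2 : e.hom ≫ νQ = ν) {T : Sp S} {x : T ⟶ X} (h : FullAt f νQ f₀ x) : FullAt f ν f' x := by
  intro P B pf pT bX bT m sqY sqX hm hmT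
  exact h pf pT (bX ≫ e.hom) bT m sqY
    (IsPullback.of_iso sqX (Iso.refl _) e (Iso.refl _) (Iso.refl _) (by simp) (by simp) (by simp [h2]) (by simp))
    (by rw [reassoc_of% hm, h1]) hmT

/-- Any normalization has the property after smooth base change. -/
theorem fullAt_of_isRelNormalization (hY : IsAlgSpace Y) (hX : IsAlgSpace X) (hX' : IsAlgSpace X')
    (hqc : IsQuasiCompactMor f) (hqs : IsQuasiSeparatedMor f) (h : IsRelNormalization f ν f')
    {T : Sp S} (hT : IsAlgSpace T) (x : T ⟶ X) (hx : LocP @Smooth x) : FullAt f ν f' x := by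
  obtain ⟨Q, νQ, f₀, hQ, h₀, hfull⟩ := exists_isRelNormalization hY hX f hqc hqs
  obtain ⟨e, h1, h2⟩ := exists_iso_of_isRelNormalization hX' hQ h h₀
  exact (hfull hT x hx).congr_iso e h1 h2

end Groth.Agent.H12AlgSp.NormSp
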