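import Groth.Agent.H12AlgSp.NormSp.Atlas
import Groth.Agent.H12AlgSp.FppfQuot

/-!
Construction of the normalization of an algebraic space by descending the normalization over an atlas.
-/

set_option autoImplicit false
set_option linter.style.haveILetI false

universe u

open CategoryTheory CategoryTheory.Limits AlgebraicGeometry
open AlgSp Groth.Agent.H13AlgSp

namespace Groth.Agent.H12AlgSp.NormSp

variable {S : Scheme.{u}}

theorem covers_fppf {X Y : Sp S} {d : X ⟶ Y} (h : RepWith fppfMor d) :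
    Covers (fun _ : PUnit.{u + 1} => d) := covers_of_lifts fun T y => by
  obtain ⟨V, v, k', sq⟩ := h.rep y
  obtain ⟨⟨hs, hf⟩, hp⟩ := h.property y k' v sq
  exact ⟨PUnit, fun _ => V, fun _ => v, ofArrows_mem_J _ (fun _ => hf) (fun _ => hp)
    (fun t => ⟨⟨⟩, hs.surj t⟩), fun _ => ⟨⟨⟩, k', sq.w⟩⟩

theorem fullAt_congr {Y X X' : Sp S} {f : Y ⟶ X} {ν : X' ⟶ X} {f' : Y ⟶ X'} {T : Sp S} {x x' : T ⟶ X}
    (e : x = x') (h : FullAt f ν f' x) : FullAt f ν f' x' := e ▸ h

variable {U N : Over S} {ν : N ⟶ U} {Yu : Sp S} {g : Yu ⟶ (yon S).obj U} {fU : Yu ⟶ (yon S).obj N}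

/-- Maps to the normalization from its smooth base changes are determined by their values on the source. -/
theorem eq_of_agree (hg : fU ≫ (yon S).map ν = g) (hνi : IsIntegralHom ν.left)
    (hG : ∀ (W : Over S) (w : W ⟶ U), Smooth w.left → FullAt g ((yon S).map ν) fU ((yon S).map w))
    {W B : Over S} (w w' : W ⟶ U) (hw : Smooth w.left) {bN : B ⟶ N} {bW : B ⟶ W} (sq : IsPullback bN bW ν w)
    (h h' : B ⟶ N) (hh : h ≫ ν = bW ≫ w') (hh' : h' ≫ ν = bW ≫ w')
    (agree : ∀ (V : Over S) (x : (yon S).obj V ⟶ Yu) (a : V ⟶ W) (b : V ⟶ B), b ≫ bW = a →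
      x ≫ g = (yon S).map (a ≫ w) → x ≫ fU = (yon S).map (b ≫ bN) → b ≫ h = b ≫ h') : h = h' := by
  have sP := IsPullback.of_hasPullback g ((yon S).map w)
  have sB := sq.map (yon S)
  have sZ := (IsPullback.of_hasPullback ν w').map (yon S)
  let k : B ⟶ pullback ν w' := pullback.lift h bW hh
  let k' : B ⟶ pullback ν w' := pullback.lift h' bW hh'
  let m : pullback g ((yon S).map w) ⟶ (yon S).obj B :=
    sB.lift (pullback.fst _ _ ≫ fU) (pullback.snd _ _) (by rw [Category.assoc, hg, pullback.condition])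
  have hm1 : m ≫ (yon S).map bN = pullback.fst _ _ ≫ fU := sB.lift_fst _ _ _
  have hm2 : m ≫ (yon S).map bW = pullback.snd _ _ := sB.lift_snd _ _ _
  have key := (hG W w hw).uniqAt _ _ _ _ m sP sB hm1 hm2 (IsAlgSpace.yon_obj _) ((yon S).map (pullback.snd ν w'))
    (isIntegralMor_of_isPullback sZ (isIntegralMor_iff.2 ((repWith_yon_map_iff _ _).2 hνi)))
    ((yon S).map k) ((yon S).map k') (by rw [← Functor.map_comp, pullback.lift_snd])
    (by rw [← Functor.map_comp, pullback.lift_snd]) (hom_ext_yon fun V z => by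
      obtain ⟨b, hb⟩ := (yon S).map_surjective (z ≫ m)
      obtain ⟨a, ha⟩ := (yon S).map_surjective (z ≫ pullback.snd g ((yon S).map w))
      have e := agree V (z ≫ pullback.fst g _) a b
        ((yon S).map_injective (by rw [Functor.map_comp, hb, ha, Category.assoc, hm2]))
        (by rw [Category.assoc, pullback.condition, Functor.map_comp, ha, Category.assoc])
        (by rw [Category.assoc, ← hm1, Functor.map_comp, hb, Category.assoc])
      rw [← Category.assoc, ← Category.assoc, ← hb, ← Functor.map_comp, ← Functor.map_comp]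
      refine congrArg _ (pullback.hom_ext ?_ ?_)
      · simp only [k, k', Category.assoc, pullback.lift_fst, e]
      · simp only [k, k', Category.assoc, pullback.lift_snd])
  have := congrArg (fun t => t ≫ pullback.fst ν w') ((yon S).map_injective key)
  simpa only [k, k', pullback.lift_fst] using this

/-- The relative normalization with its property after smooth base change along a chart. -/
theorem exists_normalization {Y X : Sp S} (hY : IsAlgSpace Y) (hX : IsAlgSpace X) (f : Y ⟶ X)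
    (hqc : IsQuasiCompactMor f) (hqs : IsQuasiSeparatedMor f) :
    ∃ (U : Over S) (p : (yon S).obj U ⟶ X), RepWith @Etale p ∧ RepWith @Surjective p ∧
      ∃ (Q : Sp S) (νQ : Q ⟶ X) (f' : Y ⟶ Q), IsAlgSpace Q ∧ IsIntegralMor νQ ∧ f' ≫ νQ = f ∧
        ∀ (W : Over S) (w : W ⟶ U), Smooth w.left → FullAt f νQ f' ((yon S).map w ≫ p) := by
  obtain ⟨U, p, hpe, hps, N, ν, fU, hνi, hg, hG⟩ := exists_normalization_atlas hY hX f hqc hqs
  refine ⟨U, p, hpe, hps, ?_⟩
  obtain ⟨R, s, t', sqR⟩ := hX.representable_from_yon p p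
  obtain ⟨t, rfl⟩ := (yon S).map_surjective t'
  haveI : Etale s.left := hpe.property p _ s sqR
  haveI : Etale t.left := hpe.property p _ t sqR.flip
  have hinjR : ∀ {T : Over S} (r r' : T ⟶ R), r ≫ t = r' ≫ t → r ≫ s = r' ≫ s → r = r' := fun r r' h₁ h₂ =>
    (yon S).map_injective (sqR.hom_ext (by rw [← Functor.map_comp, ← Functor.map_comp, h₁])
      (by rw [← Functor.map_comp, ← Functor.map_comp, h₂]))
  have hRex : ∀ {T : Over S} (a b : T ⟶ U), (yon S).map a ≫ p = (yon S).map b ≫ p →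
      ∃ r : T ⟶ R, r ≫ t = a ∧ r ≫ s = b := fun {T} a b hab => by
    obtain ⟨r, hr⟩ := (yon S).map_surjective (sqR.lift _ _ hab)
    exact ⟨r, (yon S).map_injective (by rw [Functor.map_comp, hr, sqR.lift_fst]),
      (yon S).map_injective (by rw [Functor.map_comp, hr, sqR.lift_snd])⟩
  -- the relation on the normalization
  let s' : pullback ν s ⟶ N := pullback.fst ν s
  let r₀ : pullback ν s ⟶ R := pullback.snd ν s
  have sqs : IsPullback s' r₀ ν s := IsPullback.of_hasPullback ν s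
  haveI : Etale s'.left := MorphismProperty.of_isPullback (P := @Etale) (sqs.map (Over.forget S)).flip ‹_›
  obtain ⟨t₀, ht₀, star⟩ : ∃ t₀ : pullback ν s ⟶ N, t₀ ≫ ν = r₀ ≫ t ∧
      ∀ (V : Over S) (x y : (yon S).obj V ⟶ pullback f p) (ρ : V ⟶ R) (ρ' : V ⟶ pullback ν s),
        x ≫ pullback.snd f p = (yon S).map (ρ ≫ s) → y ≫ pullback.snd f p = (yon S).map (ρ ≫ t) →
        x ≫ pullback.fst f p = y ≫ pullback.fst f p → ρ' ≫ r₀ = ρ → (yon S).map (ρ' ≫ s') = x ≫ fU →
        (yon S).map (ρ' ≫ t₀) = y ≫ fU := by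
    have sP := IsPullback.of_hasPullback (pullback.snd f p) ((yon S).map s)
    have sB := sqs.map (yon S)
    have sZ := (IsPullback.of_hasPullback ν t).map (yon S)
    let m : pullback (pullback.snd f p) ((yon S).map s) ⟶ (yon S).obj (pullback ν s) :=
      sB.lift (pullback.fst _ _ ≫ fU) (pullback.snd _ _) (by rw [Category.assoc, hg, pullback.condition])
    have hm1 : m ≫ (yon S).map s' = pullback.fst _ _ ≫ fU := sB.lift_fst _ _ _
    have hm2 : m ≫ (yon S).map r₀ = pullback.snd _ _ := sB.lift_snd _ _ _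
    let mv : pullback (pullback.snd f p) ((yon S).map s) ⟶ pullback f p :=
      pullback.lift (pullback.fst _ _ ≫ pullback.fst f p) (pullback.snd _ _ ≫ (yon S).map t) (by
        rw [Category.assoc, pullback.condition, pullback.condition_assoc, Category.assoc, sqR.w])
    have hmv1 : mv ≫ pullback.fst f p = pullback.fst _ _ ≫ pullback.fst f p := pullback.lift_fst _ _ _
    have hmv2 : mv ≫ pullback.snd f p = pullback.snd _ _ ≫ (yon S).map t := pullback.lift_snd _ _ _
    obtain ⟨gz, hgz1, hgz2⟩ : ∃ gz : pullback (pullback.snd f p) ((yon S).map s) ⟶ (yon S).obj (pullback ν t),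
        gz ≫ (yon S).map (pullback.fst ν t) = mv ≫ fU ∧ gz ≫ (yon S).map (pullback.snd ν t) = pullback.snd _ _ :=
      ⟨sZ.lift _ _ (by rw [Category.assoc, hg, hmv2]), sZ.lift_fst _ _ _, sZ.lift_snd _ _ _⟩
    obtain ⟨h₀, ⟨hh1, hh2⟩, -⟩ := (hG R s inferInstance _ _ _ _ m sP sB hm1 hm2).2.2 (IsAlgSpace.yon_obj _)
      ((yon S).map (pullback.snd ν t)) gz
      (isIntegralMor_of_isPullback sZ (isIntegralMor_iff.2 ((repWith_yon_map_iff _ _).2 hνi))) hgz2
    obtain ⟨h₁, rfl⟩ := (yon S).map_surjective h₀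
    have hh2' : h₁ ≫ pullback.snd ν t = r₀ := (yon S).map_injective (by rw [Functor.map_comp, hh2])
    refine ⟨h₁ ≫ pullback.fst ν t, by rw [Category.assoc, pullback.condition, reassoc_of% hh2'],
      fun V x y ρ ρ' hx hy hxy hr hs => ?_⟩
    obtain ⟨z, hz1, hz2⟩ : ∃ z : (yon S).obj V ⟶ pullback (pullback.snd f p) ((yon S).map s),
        z ≫ pullback.fst _ _ = x ∧ z ≫ pullback.snd _ _ = (yon S).map ρ :=
      ⟨pullback.lift x ((yon S).map ρ) (by rw [hx, Functor.map_comp]), pullback.lift_fst _ _ _,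
        pullback.lift_snd _ _ _⟩
    have hzm : z ≫ m = (yon S).map ρ' := by
      apply sB.hom_ext
      · rw [Category.assoc, hm1, reassoc_of% hz1, ← Functor.map_comp, hs]
      · rw [Category.assoc, hm2, hz2, ← Functor.map_comp, hr]
    have hzv : z ≫ mv = y := by
      apply pullback.hom_ext
      · rw [Category.assoc, hmv1, reassoc_of% hz1, hxy]
      · rw [Category.assoc, hmv2, reassoc_of% hz2, hy, Functor.map_comp]
    rw [Functor.map_comp, Functor.map_comp, ← reassoc_of% hzm, reassoc_of% hh1, hgz1, reassoc_of% hzv]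
  -- lifts of points
  have move : ∀ {V : Over S} (x : (yon S).obj V ⟶ pullback f p) (a b : V ⟶ U) (ρ : V ⟶ R), ρ ≫ s = a →
      ρ ≫ t = b → x ≫ pullback.snd f p = (yon S).map a →
      ∃ y, y ≫ pullback.fst f p = x ≫ pullback.fst f p ∧ y ≫ pullback.snd f p = (yon S).map b := by
    intro V x a b ρ ha hb hx
    refine ⟨pullback.lift (x ≫ pullback.fst f p) ((yon S).map b) ?_, pullback.lift_fst _ _ _,
      pullback.lift_snd _ _ _⟩
    rw [Category.assoc, pullback.condition, reassoc_of% hx, ← ha, ← hb, Functor.map_comp, Functor.map_comp,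
      Category.assoc, Category.assoc, sqR.w]
  have hinj : ∀ (T : Over S) (r r' : T ⟶ pullback ν s), r ≫ t₀ = r' ≫ t₀ → r ≫ s' = r' ≫ s' → r = r' := by
    intro T r r' h₁ h₂
    refine sqs.hom_ext h₂ (hinjR _ _ ?_ ?_)
    · rw [Category.assoc, Category.assoc, ← ht₀, reassoc_of% h₁]
    · rw [Category.assoc, Category.assoc, ← sqs.w, reassoc_of% h₂]
  obtain ⟨e, het, hes⟩ := hRex (𝟙 U) (𝟙 U) rfl
  obtain ⟨sw, hswt, hsws⟩ := hRex s t (by rw [sqR.w])
  obtain ⟨e', he's, he'r⟩ : ∃ e' : N ⟶ pullback ν s, e' ≫ s' = 𝟙 N ∧ e' ≫ r₀ = ν ≫ e :=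
    ⟨sqs.lift (𝟙 N) (ν ≫ e) (by rw [Category.assoc, hes, Category.id_comp, Category.comp_id]),
      sqs.lift_fst _ _ _, sqs.lift_snd _ _ _⟩
  have he't : e' ≫ t₀ = 𝟙 N := eq_of_agree hg hνi hG (𝟙 U) (𝟙 U) (inferInstanceAs (Smooth (𝟙 U.left)))
    (IsPullback.of_horiz_isIso (fst := 𝟙 N) (snd := ν) (g := 𝟙 U) ⟨by simp⟩) _ _
    (by rw [Category.assoc, ht₀, reassoc_of% he'r, het]) (by simp)
    (fun V x a b hb hx hxf => (yon S).map_injective (by
      rw [← Category.assoc]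
      rw [star V x x (a ≫ e) (b ≫ e') (by rw [hx, Category.assoc, hes]) (by rw [hx, Category.assoc, het])
        rfl (by rw [Category.assoc, he'r, reassoc_of% hb]) (by rw [Category.assoc, he's, hxf]), hxf]))
  obtain ⟨σ', hσs, hσr⟩ : ∃ σ' : pullback ν s ⟶ pullback ν s, σ' ≫ s' = t₀ ∧ σ' ≫ r₀ = r₀ ≫ sw :=
    ⟨sqs.lift t₀ (r₀ ≫ sw) (by rw [Category.assoc, hsws, ht₀]), sqs.lift_fst _ _ _, sqs.lift_snd _ _ _⟩
  have hσt : σ' ≫ t₀ = s' := eq_of_agree hg hνi hG s s inferInstance sqs _ _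
    (by rw [Category.assoc, ht₀, reassoc_of% hσr, hswt]) sqs.w
    (fun V x a b hb hx hxf => by
      obtain ⟨y, hy1, hy2⟩ := move x (a ≫ s) (a ≫ t) a rfl rfl hx
      have h1 := star V x y a b hx hy2 hy1.symm hb hxf.symm
      have h2 := star V y x (a ≫ sw) (b ≫ σ') (by rw [hy2, Category.assoc, hsws])
        (by rw [hx, Category.assoc, hswt]) hy1 (by rw [Category.assoc, hσr, reassoc_of% hb])
        (by rw [Category.assoc, hσs, h1])
      exact (yon S).map_injective (by rw [← Category.assoc, h2, hxf]))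
  have htrans : ∀ (T : Over S) (r₁ r₂ : T ⟶ pullback ν s), r₂ ≫ s' = r₁ ≫ t₀ →
      ∃ r₃, r₃ ≫ s' = r₁ ≫ s' ∧ r₃ ≫ t₀ = r₂ ≫ t₀ := by
    intro T r₁ r₂ h12
    let p₁ : pullback t s ⟶ R := pullback.fst t s
    let p₂ : pullback t s ⟶ R := pullback.snd t s
    haveI : Etale p₁.left :=
      MorphismProperty.of_isPullback (P := @Etale) ((IsPullback.of_hasPullback t s).map (Over.forget S)).flip ‹_›
    haveI hsm : Smooth (p₁ ≫ s).left := inferInstanceAs (Smooth (p₁.left ≫ s.left))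
    obtain ⟨μ, hμt, hμs⟩ := hRex (p₂ ≫ t) (p₁ ≫ s) (by
      have hc : p₁ ≫ t = p₂ ≫ s := pullback.condition
      rw [Functor.map_comp, Functor.map_comp, Category.assoc, Category.assoc, sqR.w, ← Functor.map_comp_assoc,
        ← hc, Functor.map_comp, Category.assoc, sqR.w])
    let bN : pullback ν (p₁ ≫ s) ⟶ N := pullback.fst ν (p₁ ≫ s)
    let bW : pullback ν (p₁ ≫ s) ⟶ pullback t s := pullback.snd ν (p₁ ≫ s)
    have sqB : IsPullback bN bW ν (p₁ ≫ s) := IsPullback.of_hasPullback _ _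
    obtain ⟨α, hαs, hαr⟩ : ∃ α, α ≫ s' = bN ∧ α ≫ r₀ = bW ≫ p₁ :=
      ⟨sqs.lift bN (bW ≫ p₁) (by rw [Category.assoc]; exact sqB.w), sqs.lift_fst _ _ _, sqs.lift_snd _ _ _⟩
    obtain ⟨β, hβs, hβr⟩ : ∃ β, β ≫ s' = α ≫ t₀ ∧ β ≫ r₀ = bW ≫ p₂ :=
      ⟨sqs.lift (α ≫ t₀) (bW ≫ p₂) (by
        rw [Category.assoc, ht₀, reassoc_of% hαr, Category.assoc, pullback.condition]),
        sqs.lift_fst _ _ _, sqs.lift_snd _ _ _⟩
    obtain ⟨γ', hγs, hγr⟩ : ∃ γ', γ' ≫ s' = bN ∧ γ' ≫ r₀ = bW ≫ μ :=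
      ⟨sqs.lift bN (bW ≫ μ) (by rw [Category.assoc, hμs]; exact sqB.w), sqs.lift_fst _ _ _, sqs.lift_snd _ _ _⟩
    have key : γ' ≫ t₀ = β ≫ t₀ := eq_of_agree hg hνi hG (p₁ ≫ s) (p₂ ≫ t) hsm sqB _ _
      (by rw [Category.assoc, ht₀, reassoc_of% hγr, hμt])
      (by rw [Category.assoc, ht₀, reassoc_of% hβr])
      (fun V x a b hb hx hxf => by
        obtain ⟨y₁, hy₁, hy₁'⟩ := move x (a ≫ p₁ ≫ s) (a ≫ p₁ ≫ t) (a ≫ p₁) (Category.assoc _ _ _)
          (Category.assoc _ _ _) hx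
        obtain ⟨y₂, hy₂, hy₂'⟩ := move y₁ (a ≫ p₂ ≫ s) (a ≫ p₂ ≫ t) (a ≫ p₂) (Category.assoc _ _ _)
          (Category.assoc _ _ _) (by rw [hy₁', pullback.condition])
        have h1 := star V x y₁ (a ≫ p₁) (b ≫ α) (by rw [hx, Category.assoc]) (by rw [hy₁', Category.assoc])
          hy₁.symm (by rw [Category.assoc, hαr, reassoc_of% hb]) (by rw [Category.assoc, hαs, hxf])
        have h2 := star V y₁ y₂ (a ≫ p₂) (b ≫ β) (by rw [hy₁', Category.assoc, pullback.condition])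
          (by rw [hy₂', Category.assoc]) hy₂.symm
          (by rw [Category.assoc, hβr, reassoc_of% hb]) (by rw [Category.assoc, hβs, ← Category.assoc, h1])
        have h3 := star V x y₂ (a ≫ μ) (b ≫ γ') (by rw [hx, Category.assoc, hμs])
          (by rw [hy₂', Category.assoc, hμt]) (by rw [hy₂, hy₁]) (by rw [Category.assoc, hγr, reassoc_of% hb])
          (by rw [Category.assoc, hγs, hxf])
        exact (yon S).map_injective (by rw [← Category.assoc, ← Category.assoc, h3, h2]))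
    obtain ⟨a, ha1, ha2⟩ : ∃ a : T ⟶ pullback t s, a ≫ p₁ = r₁ ≫ r₀ ∧ a ≫ p₂ = r₂ ≫ r₀ :=
      ⟨pullback.lift (r₁ ≫ r₀) (r₂ ≫ r₀) (by
        rw [Category.assoc, Category.assoc, ← ht₀, ← sqs.w, reassoc_of% h12]),
        pullback.lift_fst _ _ _, pullback.lift_snd _ _ _⟩
    obtain ⟨b, hb1, hb2⟩ : ∃ b, b ≫ bN = r₁ ≫ s' ∧ b ≫ bW = a :=
      ⟨sqB.lift (r₁ ≫ s') a (by rw [reassoc_of% ha1, Category.assoc, sqs.w]),
        sqB.lift_fst _ _ _, sqB.lift_snd _ _ _⟩
    have hbα : b ≫ α = r₁ := sqs.hom_ext (by rw [Category.assoc, hαs, hb1])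
      (by rw [Category.assoc, hαr, reassoc_of% hb2, ha1])
    have hbβ : b ≫ β = r₂ := sqs.hom_ext (by rw [Category.assoc, hβs, reassoc_of% hbα, h12])
      (by rw [Category.assoc, hβr, reassoc_of% hb2, ha2])
    exact ⟨b ≫ γ', by rw [Category.assoc, hγs, hb1], by rw [Category.assoc, key, reassoc_of% hbβ]⟩
  have hrel : IsEqvRel s' t₀ := ⟨hinj, fun T => ⟨fun a => ⟨a ≫ e', by rw [Category.assoc, he't, Category.comp_id],
      by rw [Category.assoc, he's, Category.comp_id]⟩,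
    fun {a b} ⟨r, h1, h2⟩ => ⟨r ≫ σ', by rw [Category.assoc, hσt, h2], by rw [Category.assoc, hσs, h1]⟩,
    fun {a b c} ⟨r, h1, h2⟩ ⟨r', h1', h2'⟩ => by
      obtain ⟨r₃, h3, h3'⟩ := htrans T r' r (h2.trans h1'.symm)
      exact ⟨r₃, by rw [h3', h1], by rw [h3, h2']⟩⟩⟩
  -- the quotient
  let Q := QuotSh.quot Scheme.fppfPrecoverage s' t₀
  let q : (yon S).obj N ⟶ Q := quotMap s' t₀
  have hQ : IsAlgSpace Q := isAlgSpace_quot_fppf hrel
  have hqcov : Covers (fun _ : PUnit.{u + 1} => q) := covers_fppf (repWith_fppf_quotMap hrel)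
  obtain ⟨sqQ, -⟩ := isPullback_quotMap hrel
  have hqrel : ∀ {T : Over S} (x y : T ⟶ N), (yon S).map x ≫ q = (yon S).map y ≫ q →
      ∃ r : T ⟶ pullback ν s, r ≫ t₀ = x ∧ r ≫ s' = y := fun {T} x y hxy => by
    obtain ⟨r, hr⟩ := (yon S).map_surjective (sqQ.lift _ _ hxy)
    exact ⟨r, (yon S).map_injective (by rw [Functor.map_comp, hr, sqQ.lift_fst]),
      (yon S).map_injective (by rw [Functor.map_comp, hr, sqQ.lift_snd])⟩
  obtain ⟨νQ, hνQ', -⟩ := hqcov.existsUnique_glue (fun _ => (yon S).map ν ≫ p) fun _ _ V x y hxy => by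
    obtain ⟨x₀, rfl⟩ := (yon S).map_surjective x
    obtain ⟨y₀, rfl⟩ := (yon S).map_surjective y
    obtain ⟨r, rfl, rfl⟩ := hqrel x₀ y₀ hxy
    rw [← Functor.map_comp_assoc, ← Functor.map_comp_assoc, Category.assoc, Category.assoc, ht₀, sqs.w,
      ← Category.assoc, ← Category.assoc, Functor.map_comp, Functor.map_comp _ (r ≫ r₀) s, Category.assoc,
      Category.assoc, sqR.w]
  have hνQ : q ≫ νQ = (yon S).map ν ≫ p := hνQ' ⟨⟩
  have sqf := IsPullback.of_hasPullback f p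
  have hYcov : Covers (fun _ : PUnit.{u + 1} => pullback.fst f p) :=
    (covers_single hpe hps).pullback fun _ => sqf
  obtain ⟨f', hf'', -⟩ := hYcov.existsUnique_glue (fun _ => fU ≫ q) fun _ _ V x y hxy => by
    obtain ⟨a, ha⟩ := (yon S).map_surjective (x ≫ pullback.snd f p)
    obtain ⟨b, hb⟩ := (yon S).map_surjective (y ≫ pullback.snd f p)
    obtain ⟨n, hn⟩ := (yon S).map_surjective (x ≫ fU)
    obtain ⟨ρ, hρt, hρs⟩ := hRex b a (by
      rw [ha, hb, Category.assoc, Category.assoc, ← pullback.condition, reassoc_of% hxy])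
    obtain ⟨ρ', hρ's, hρ'r⟩ : ∃ ρ', ρ' ≫ s' = n ∧ ρ' ≫ r₀ = ρ :=
      ⟨sqs.lift n ρ ((yon S).map_injective (by rw [hρs, Functor.map_comp, hn, Category.assoc, hg, ha])),
        sqs.lift_fst _ _ _, sqs.lift_snd _ _ _⟩
    have h := star V x y ρ ρ' (by rw [hρs, ha]) (by rw [hρt, hb]) hxy hρ'r (by rw [hρ's, hn])
    rw [← Category.assoc, ← Category.assoc, ← hn, ← h, ← hρ's, Functor.map_comp, Functor.map_comp,
      Category.assoc, Category.assoc, sqQ.w]
  have hf' : pullback.fst f p ≫ f' = fU ≫ q := hf'' ⟨⟩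
  have hff : f' ≫ νQ = f := hYcov.hom_ext fun _ => by
    rw [reassoc_of% hf', hνQ, reassoc_of% hg, pullback.condition]
  -- the normalization is cartesian over the atlas
  let L : (yon S).obj N ⟶ pullback νQ p := pullback.lift q ((yon S).map ν) hνQ
  haveI : Mono L := mono_of_yon fun T a b hab => by
    obtain ⟨a₀, rfl⟩ := (yon S).map_surjective a
    obtain ⟨b₀, rfl⟩ := (yon S).map_surjective b
    have h1 : (yon S).map a₀ ≫ q = (yon S).map b₀ ≫ q := by
      simpa [L, pullback.lift_fst] using hab =≫ pullback.fst νQ p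
    have h2 : a₀ ≫ ν = b₀ ≫ ν := (yon S).map_injective (by
      simpa [L, pullback.lift_snd] using hab =≫ pullback.snd νQ p)
    obtain ⟨r, hra, hrb⟩ := hqrel a₀ b₀ h1
    have hre : r ≫ r₀ = (b₀ ≫ ν) ≫ e := hinjR _ _
      (by rw [Category.assoc, Category.assoc, ← ht₀, reassoc_of% hra, het, Category.comp_id, h2])
      (by rw [Category.assoc, Category.assoc, ← sqs.w, reassoc_of% hrb, hes, Category.comp_id])
    have hr : r = b₀ ≫ e' := sqs.hom_ext (by rw [Category.assoc, he's, hrb, Category.comp_id])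
      (by rw [hre, Category.assoc, Category.assoc, he'r])
    rw [← hra, hr, Category.assoc, he't, Category.comp_id]
  haveI : IsIso L := isIso_of_mono_of_local_lifts L fun T y => by
    obtain ⟨V, v, k', sq⟩ := (repWith_fppf_quotMap hrel).rep (y ≫ pullback.fst νQ p)
    obtain ⟨⟨hs, hfl⟩, hfp⟩ := (repWith_fppf_quotMap hrel).property _ k' v sq
    refine ⟨PUnit, fun _ => V, fun _ => v, ofArrows_mem_J _ (fun _ => hfl) (fun _ => hfp)
      (fun x => ⟨⟨⟩, hs.surj x⟩), fun _ => ?_⟩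
    obtain ⟨n, rfl⟩ := (yon S).map_surjective k'
    obtain ⟨c, hc⟩ := (yon S).map_surjective (y ≫ pullback.snd νQ p)
    have hw : (yon S).map n ≫ q = (yon S).map v ≫ y ≫ pullback.fst νQ p := sq.w
    obtain ⟨ρ, hρt, hρs⟩ := hRex (v ≫ c) (n ≫ ν) (by
      rw [Functor.map_comp, Functor.map_comp, Category.assoc, Category.assoc, hc, Category.assoc,
        ← pullback.condition, ← hνQ, reassoc_of% hw])
    obtain ⟨ρ', hρ's, hρ'r⟩ : ∃ ρ', ρ' ≫ s' = n ∧ ρ' ≫ r₀ = ρ :=
      ⟨sqs.lift n ρ hρs.symm, sqs.lift_fst _ _ _, sqs.lift_snd _ _ _⟩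
    refine ⟨(yon S).map (ρ' ≫ t₀), pullback.hom_ext ?_ ?_⟩
    · rw [Category.assoc, pullback.lift_fst, Functor.map_comp, Category.assoc, sqQ.w,
        ← Functor.map_comp_assoc, hρ's, hw, Category.assoc]
    · rw [Category.assoc, pullback.lift_snd, ← Functor.map_comp, Category.assoc, ht₀, reassoc_of% hρ'r,
        hρt, Functor.map_comp, hc, Category.assoc]
  have sqN : IsPullback q ((yon S).map ν) νQ p :=
    IsPullback.of_iso_pullback ⟨hνQ⟩ (asIso L) (pullback.lift_fst _ _ _) (pullback.lift_snd _ _ _)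
  refine ⟨Q, νQ, f', hQ, isIntegralMor_iff.2 (repWith_of_etale_cover
    (fun _ _ k (_ : IsIntegralHom k) => inferInstanceAs (IsAffineHom k)) hQ hX hpe hps sqN
    ((repWith_yon_map_iff _ _).2 hνi)), hff, fun W w hw => (hG W w hw).of_isPullback sqf sqN hg hf'.symm⟩

end Groth.Agent.H12AlgSp.NormSp
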