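import Groth.Agent.H13AlgSp.Cover
import Groth.Agent.H12AlgSp.Presentation

/-!
Jointly locally surjective families of maps of sheaves: separatedness, gluing, base change.
-/

set_option autoImplicit false

universe u

open CategoryTheory CategoryTheory.Limits AlgebraicGeometry Opposite
open AlgSp Groth.Agent.H13AlgSp

namespace Groth.Agent.H12AlgSp.NormSp

variable {S : Scheme.{u}} {ι : Type*} {A : Sp S} {A' : ι → Sp S} (a : ∀ i, A' i ⟶ A)

/-- The arrows along which a point lifts to a member of the family. -/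
def liftSieve {T : Over S} (y : (yon S).obj T ⟶ A) : Sieve T where
  arrows V g := ∃ (i : ι) (l : (yon S).obj V ⟶ A' i), l ≫ a i = (yon S).map g ≫ y
  downward_closed {V W g} hg k := by
    obtain ⟨i, l, hl⟩ := hg
    exact ⟨i, (yon S).map k ≫ l, by rw [Category.assoc, hl, Functor.map_comp, Category.assoc]⟩

/-- Every point lifts locally to a member of the family. -/
def Covers : Prop := ∀ (T : Over S) (y : (yon S).obj T ⟶ A), liftSieve a y ∈ J S T

variable {a}

theorem hom_ext_sieve {F : Sp S} {T : Over S} {R : Sieve T} (hR : R ∈ J S T) {x y : (yon S).obj T ⟶ F}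
    (h : ∀ ⦃V : Over S⦄ (g : V ⟶ T), R g → (yon S).map g ≫ x = (yon S).map g ≫ y) : x = y := by
  apply (J S).uliftYonedaEquiv.injective
  refine (((isSheaf_iff_isSheaf_of_type _ _).1 F.property) _ hR).isSeparatedFor.ext ?_
  intro V g hg
  rw [GrothendieckTopology.uliftYonedaEquiv_naturality, GrothendieckTopology.uliftYonedaEquiv_naturality,
    h g hg]

theorem Covers.hom_ext (hc : Covers a) {Z : Sp S} {h h' : A ⟶ Z} (e : ∀ i, a i ≫ h = a i ≫ h') : h = h' :=
  hom_ext_yon fun T y => hom_ext_sieve (hc T y) fun V g ⟨i, l, hl⟩ => by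
    rw [← Category.assoc, ← hl, Category.assoc, e i, ← Category.assoc, hl, Category.assoc]

/-- Compatible maps on the members of a covering family glue. -/
theorem Covers.existsUnique_glue (hc : Covers a) {Z : Sp S} (h : ∀ i, A' i ⟶ Z)
    (agree : ∀ i j (V : Over S) (x : (yon S).obj V ⟶ A' i) (y : (yon S).obj V ⟶ A' j),
      x ≫ a i = y ≫ a j → x ≫ h i = y ≫ h j) :
    ∃! H : A ⟶ Z, ∀ i, a i ≫ H = h i := by
  suffices he : ∃ H : A ⟶ Z, ∀ i, a i ≫ H = h i by
    obtain ⟨H, hH⟩ := he
    exact ⟨H, hH, fun K hK => hc.hom_ext fun i => by rw [hK i, hH i]⟩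
  classical
  have glue : ∀ (T : Over S) (y : (yon S).obj T ⟶ A), ∃ z : (yon S).obj T ⟶ Z,
      ∀ ⦃V : Over S⦄ (g : V ⟶ T) (i : ι) (l : (yon S).obj V ⟶ A' i),
        l ≫ a i = (yon S).map g ≫ y → (yon S).map g ≫ z = l ≫ h i := by
    intro T y
    let x : Presieve.FamilyOfElements Z.obj (liftSieve a y).arrows := fun V g hg =>
      (J S).uliftYonedaEquiv (hg.choose_spec.choose ≫ h hg.choose)
    have val : ∀ ⦃V : Over S⦄ (g : V ⟶ T) (hg : liftSieve a y g) (i : ι) (l : (yon S).obj V ⟶ A' i),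
        l ≫ a i = (yon S).map g ≫ y → x g hg = (J S).uliftYonedaEquiv (l ≫ h i) := fun V g hg i l hl =>
      congrArg (J S).uliftYonedaEquiv (agree _ _ _ _ _ (hg.choose_spec.choose_spec.trans hl.symm))
    have hx : x.Compatible := by
      intro Y₁ Y₂ W g₁ g₂ f₁ f₂ h₁ h₂ e
      obtain ⟨i, l, hl⟩ := h₁
      obtain ⟨j, m, hm⟩ := h₂
      rw [val f₁ ⟨i, l, hl⟩ i l hl, val f₂ ⟨j, m, hm⟩ j m hm,
        GrothendieckTopology.uliftYonedaEquiv_naturality, GrothendieckTopology.uliftYonedaEquiv_naturality]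
      refine congrArg _ ?_
      rw [← Category.assoc, ← Category.assoc]
      refine agree _ _ _ _ _ ?_
      rw [Category.assoc, hl, Category.assoc, hm, ← Category.assoc, ← Category.assoc, ← Functor.map_comp,
        ← Functor.map_comp, e]
    obtain ⟨z, hz, -⟩ := (((isSheaf_iff_isSheaf_of_type _ _).1 Z.property) _ (hc T y)) x hx
    refine ⟨(J S).uliftYonedaEquiv.symm z, fun V g i l hl => (J S).uliftYonedaEquiv.injective ?_⟩
    have := hz g ⟨i, l, hl⟩
    rw [val g ⟨i, l, hl⟩ i l hl] at this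
    rw [← GrothendieckTopology.uliftYonedaEquiv_naturality, Equiv.apply_symm_apply, this]
  choose z hz using glue
  have nat : ∀ {T T' : Over S} (k : T' ⟶ T) (y : (yon S).obj T ⟶ A),
      (yon S).map k ≫ z T y = z T' ((yon S).map k ≫ y) := fun {T T'} k y =>
    hom_ext_sieve (hc T' ((yon S).map k ≫ y)) fun V g ⟨i, l, hl⟩ => by
      rw [hz T' _ g i l hl, ← Category.assoc, ← Functor.map_comp,
        hz T y (g ≫ k) i l (by rw [hl, Functor.map_comp, Category.assoc])]
  let H : A ⟶ Z := ⟨
    { app := fun T => TypeCat.ofHom fun s =>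
        (J S).uliftYonedaEquiv (z T.unop ((J S).uliftYonedaEquiv.symm s))
      naturality := fun T T' k => by
        ext s
        change (J S).uliftYonedaEquiv (z _ ((J S).uliftYonedaEquiv.symm (A.obj.map k s))) =
          Z.obj.map k.unop.op ((J S).uliftYonedaEquiv (z _ ((J S).uliftYonedaEquiv.symm s)))
        rw [GrothendieckTopology.uliftYonedaEquiv_naturality, nat]
        refine congrArg _ (congrArg _ ((J S).uliftYonedaEquiv.injective ?_))
        rw [← GrothendieckTopology.uliftYonedaEquiv_naturality, Equiv.apply_symm_apply, Equiv.apply_symm_apply]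
        rfl }⟩
  have hH : ∀ (T : Over S) (y : (yon S).obj T ⟶ A), y ≫ H = z T y := fun T y => by
    apply (J S).uliftYonedaEquiv.injective
    rw [GrothendieckTopology.uliftYonedaEquiv_comp]
    change (J S).uliftYonedaEquiv (z T ((J S).uliftYonedaEquiv.symm ((J S).uliftYonedaEquiv y))) = _
    rw [Equiv.symm_apply_apply]
  refine ⟨H, fun i => hom_ext_yon fun T x => ?_⟩
  rw [← Category.assoc, hH, ← hz T (x ≫ a i) (𝟙 T) i x (by rw [CategoryTheory.Functor.map_id, Category.id_comp]),
    CategoryTheory.Functor.map_id, Category.id_comp]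

variable {B : Sp S} {B' : ι → Sp S} {b : ∀ i, B' i ⟶ B}

theorem Covers.pullback (hc : Covers a) {ν : B ⟶ A} {ν' : ∀ i, B' i ⟶ A' i}
    (sq : ∀ i, IsPullback (b i) (ν' i) ν (a i)) : Covers b := fun T y =>
  (J S).superset_covering (show liftSieve a (y ≫ ν) ≤ liftSieve b y from fun V g hg => by
    obtain ⟨i, l, hl⟩ := hg
    refine ⟨i, (sq i).lift ((yon S).map g ≫ y) l ?_, ?_⟩
    · rw [Category.assoc, hl]
    · rw [(sq i).lift_fst]) (hc T (y ≫ ν))

theorem covers_of_lifts
    (h : ∀ (T : Over S) (y : (yon S).obj T ⟶ A), ∃ (κ : Type u) (C : κ → Over S) (c : ∀ k, C k ⟶ T),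
      Sieve.ofArrows C c ∈ J S T ∧ ∀ k, ∃ i l, l ≫ a i = (yon S).map (c k) ≫ y) : Covers a := fun T y => by
  obtain ⟨κ, C, c, hc, hl⟩ := h T y
  exact (J S).superset_covering ((Sieve.generate_le_iff _ _).2 fun V g ⟨k⟩ => hl k) hc

theorem covers_single {X Y : Sp S} {d : X ⟶ Y} (he : RepWith @Etale d) (hs : RepWith @Surjective d) :
    Covers (fun _ : PUnit.{u + 1} => d) := covers_of_lifts fun T y => by
  obtain ⟨V, v, k', sq⟩ := he.rep y
  have hve : Etale v.left := he.property y k' v sq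
  have hvs : Surjective v.left := hs.property y k' v sq
  exact ⟨PUnit, fun _ => V, fun _ => v, ofArrows_mem_J _ (fun _ => inferInstance) (fun _ => inferInstance)
    (fun t => ⟨⟨⟩, v.left.surjective t⟩), fun _ => ⟨⟨⟩, k', sq.w⟩⟩

/-- An open covering of a scheme covers. -/
theorem covers_open {T : Over S} {κ : Type u} {C : κ → Over S} (c : ∀ k, C k ⟶ T)
    (ho : ∀ k, IsOpenImmersion (c k).left) (hs : ∀ t : T.left, ∃ k, t ∈ Set.range (c k).left) :
    Covers (fun k => (yon S).map (c k)) := fun V y => by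
  obtain ⟨y₀, rfl⟩ := (yon S).map_surjective y
  refine (J S).superset_covering ?_
    ((J S).pullback_stable y₀ (ofArrows_mem_J c (fun k => inferInstance) (fun k => inferInstance) hs))
  rintro W g ⟨_, l, _, ⟨k⟩, e⟩
  exact ⟨k, (yon S).map l, by rw [← Functor.map_comp, ← Functor.map_comp, e]⟩

end Groth.Agent.H12AlgSp.NormSp
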