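import Groth.Agent.H12AlgSp.NormSp.BaseChange
import Groth.Agent.S10298
import Groth.Agent.H12AlgSp.LQFScheme2
import Groth.Agent.H12AlgSp.Proper
import Mathlib.AlgebraicGeometry.ZariskisMainTheorem
import Mathlib.AlgebraicGeometry.QuasiAffine

/-!
The normalization in a quasi-finite separated space contains it as an open subspace.
-/

set_option autoImplicit false
set_option linter.style.haveILetI false

universe u

open CategoryTheory CategoryTheory.Limits AlgebraicGeometry
open AlgSp Groth.Agent.H13AlgSp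

namespace Groth.Agent.H12AlgSp.NormSp

variable {S : Scheme.{u}} {X Y : Sp S} {f : X ⟶ Y}

theorem scheme_props (hX : IsAlgSpace X) (hY : IsAlgSpace Y)
    (hqf : LocP (@LocallyQuasiFinite ⊓ @LocallyOfFiniteType) f) (hqc : IsQuasiCompactMor f)
    (hsep : IsSeparatedMor f) {T W : Over S} {i : W ⟶ T} {a : (yon S).obj W ⟶ X} {g : (yon S).obj T ⟶ Y}
    (sq : IsPullback a ((yon S).map i) f g) :
    LocallyQuasiFinite i.left ∧ LocallyOfFiniteType i.left ∧ IsSeparated i.left ∧ QuasiCompact i.left := by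
  have h := locP_yon_map (locP_of_isPullback (etLocal_inf etLocal_lqf etLocal_lft) sq hX hY
    (IsAlgSpace.yon_obj T) hqf)
  refine ⟨h.1, h.2, (isSeparatedMor_yon_map_iff i).1 (isSeparatedMor_of_isPullback sq hsep),
    (repWith_yon_map_iff _ i).1 (repWith_quasiCompact_of_mor (representable_yon_map i) ?_)⟩
  exact isQuasiCompactMor_of_isPullback sq hqc

theorem quasiAffineMor_of_qf_separated (hX : IsAlgSpace X) (hY : IsAlgSpace Y)
    (hqf : LocP (@LocallyQuasiFinite ⊓ @LocallyOfFiniteType) f) (hqc : IsQuasiCompactMor f)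
    (hsep : IsSeparatedMor f) : IsQuasiAffineMor f := by
  intro Z hZ g
  obtain ⟨W, i, a, sq⟩ := representable_of_lqf_separated hX hY hsep hqf g
  obtain ⟨h1, h2, h3, h4⟩ := scheme_props hX hY hqf hqc hsep sq
  refine ⟨W, i, a, sq, ?_⟩
  haveI := hZ
  haveI : IsAffine i.left.normalization := isAffine_of_isAffineHom i.left.fromNormalization
  haveI : CompactSpace W.left := QuasiCompact.compactSpace_of_compactSpace i.left
  exact Scheme.IsQuasiAffine.of_isImmersion i.left.toNormalization

theorem openImmersion_of_qf_separated {Y' : Sp S} (hX : IsAlgSpace X) (hY : IsAlgSpace Y) (hY' : IsAlgSpace Y')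
    (hqf : LocP (@LocallyQuasiFinite ⊓ @LocallyOfFiniteType) f) (hqc : IsQuasiCompactMor f)
    (hsep : IsSeparatedMor f) {ν : Y' ⟶ Y} {f' : X ⟶ Y'} (hn : IsRelNormalization f ν f') :
    RepWith @IsOpenImmersion f' ∧ IsQuasiCompactMor f' ∧ IsQuasiAffineMor f := by
  have hqs : IsQuasiSeparatedMor f :=
    repWith_le (fun _ _ k (_ : IsClosedImmersion k) => inferInstanceAs (QuasiCompact k)) hsep
  have hνsep : IsSeparatedMor ν := isSeparatedMor_of_repWith
    (repWith_le (fun _ _ k (_ : IsIntegralHom k) => inferInstanceAs (IsSeparated k)) (isIntegralMor_iff.1 hn.2.1))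
  refine ⟨?_, isQuasiCompactMor_of_comp hX hY' hY (by rw [hn.1]; exact hqc)
    (repWith_le (fun _ _ k (_ : IsClosedImmersion k) => inferInstanceAs (QuasiCompact k)) hνsep),
    quasiAffineMor_of_qf_separated hX hY hqf hqc hsep⟩
  obtain ⟨U, p, hpe, hps⟩ := hY.atlas
  obtain ⟨W, gW, a, sqX⟩ := representable_of_lqf_separated hX hY hsep hqf p
  obtain ⟨h1, h2, h3, h4⟩ := scheme_props hX hY hqf hqc hsep sqX
  obtain ⟨N, νN, b, sqN⟩ := (isIntegralMor_iff.1 hn.2.1).1 p
  obtain ⟨m, hm⟩ := (yon S).map_surjective (sqN.lift (a ≫ f') ((yon S).map gW)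
    (by rw [Category.assoc, hn.1, sqX.w]))
  have hm1 : (yon S).map m ≫ b = a ≫ f' := by rw [hm, sqN.lift_fst]
  have hm2 : (yon S).map m ≫ (yon S).map νN = (yon S).map gW := by rw [hm, sqN.lift_snd]
  have hx : LocP @Smooth p := locP_smooth_of_isEtaleMor fun V φ hφ => repWith_comp hφ hpe
  have hN := fullAt_of_isRelNormalization hX hY hY' hqc hqs hn (IsAlgSpace.yon_obj _) p hx
    _ _ _ _ ((yon S).map m) sqX sqN hm1 hm2
  let M : Over S := Over.mk (gW.left.fromNormalization ≫ U.hom)
  let to' : W ⟶ M := Over.homMk gW.left.toNormalization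
    (((reassoc_of% Scheme.Hom.toNormalization_fromNormalization gW.left) U.hom).trans (Over.w gW))
  let from' : M ⟶ U := Over.homMk gW.left.fromNormalization rfl
  have hM := Groth.Agent.S10298.result gW to' from' (Iso.refl _) (by simp [to']) (by simp [from'])
  obtain ⟨e, he1, -⟩ := exists_iso_of_isRelNormalization (IsAlgSpace.yon_obj M) (IsAlgSpace.yon_obj N) hM hN
  obtain ⟨e₀, he₀⟩ := (yon S).map_surjective e.hom
  haveI : IsIso ((yon S).map e₀) := by rw [he₀]; infer_instance
  haveI : IsIso e₀ := isIso_of_reflects_iso e₀ (yon S)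
  haveI : IsIso e₀.left := inferInstanceAs (IsIso ((Over.forget S).map e₀))
  have hem : to' ≫ e₀ = m := (yon S).map_injective (by rw [Functor.map_comp, he₀, he1])
  haveI : IsOpenImmersion m.left := by
    rw [← hem]; exact inferInstanceAs (IsOpenImmersion (gW.left.toNormalization ≫ e₀.left))
  have hbe : RepWith @Etale b := repWith_of_isPullback sqN.flip hpe
  have hbs : RepWith @Surjective b := repWith_of_isPullback sqN.flip hps
  have sqm : IsPullback a ((yon S).map m) f' b :=
    IsPullback.of_bot (by rw [hm2, hn.1]; exact sqX) hm1.symm sqN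
  exact (isLocalOnBase_fpqc_openImmersion (fun _ : PUnit.{u + 1} => (yon S).obj N) (fun _ => b) hY'
    (fun _ => IsAlgSpace.yon_obj _) (isFpqcCover_of_etale_surjective hbe hbs) f' hX
    (fun _ => (yon S).obj W) (fun _ => (yon S).map m) (fun _ => a) (fun _ => IsAlgSpace.yon_obj _)
    fun _ => sqm).2 fun _ => (repWith_yon_map_iff _ _).2 ‹_›

end Groth.Agent.H12AlgSp.NormSp
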