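import Groth.Agent.H12AlgSp.NormSp.Split
import Groth.Agent.H12AlgSp.LQFScheme2
import Groth.Agent.H12AlgSp.Proper
import Groth.Prelude.Def_AlgSpDec
import Mathlib.AlgebraicGeometry.ZariskisMainTheorem

/-!
Zariski's main theorem over the quasi-finite locus of a separated morphism of finite type.
-/

set_option autoImplicit false
set_option linter.style.haveILetI false

universe u

open CategoryTheory CategoryTheory.Limits AlgebraicGeometry Opposite
open AlgSp Groth.Agent.H13AlgSp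

namespace Groth.Agent.H12AlgSp.NormSp

variable {S : Scheme.{u}} {X Y Y' : Sp S} {f : X ⟶ Y}

/-- The local predicate of the quasi-finite locus. -/
abbrev QFPred : ∀ (U V : Scheme.{u}), (U ⟶ V) → ↥U → Prop := fun U _ h u =>
  ∃ W : U.Opens, u ∈ W ∧ LocallyQuasiFinite (W.ι ≫ h) ∧ LocallyOfFiniteType (W.ι ≫ h)

theorem isUnivClosedMor_of_finite {F V : Over S} (b : F ⟶ V) (hb : IsFinite b.left) :
    IsProperMor ((yon S).map b) :=
  ((isFiniteMor_iff_affine_proper (IsAlgSpace.yon_obj F) (IsAlgSpace.yon_obj V)).1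
    (isFiniteMor_iff.2 ((repWith_yon_map_iff _ b).2 hb))).2

theorem exists_finite_piece (hX : IsAlgSpace X) (hY : IsAlgSpace Y) (hsep : IsSeparatedMor f) {x : Points X}
    (hx : HasAtMor QFPred f x) :
    ∃ (V : Over S) (v : (yon S).obj V ⟶ Y), RepWith @Etale v ∧ ∃ (F : Over S) (b : F ⟶ V)
      (i : (yon S).obj F ⟶ pullback f v), IsFinite b.left ∧ RepWith @IsOpenImmersion i ∧
        IsClosed (Set.range (Points.map i)) ∧ i ≫ pullback.snd f v = (yon S).map b ∧
        ∃ t : F.left, Points.ofPt (i ≫ pullback.fst f v) t = x := by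
  obtain ⟨U, V₀, a, b, h, u, ha, hb, comm, rfl, W, huW, hWq, hWt⟩ := hx
  let Wo : Over S := openOver U W
  let aW : (yon S).obj Wo ⟶ X := (yon S).map (openIncl U W) ≫ a
  have haW : RepWith @Etale aW :=
    repWith_comp ((repWith_yon_map_iff _ _).2 (inferInstanceAs (Etale W.ι))) ha
  have hopen : IsOpen (Set.range (Points.map aW)) :=
    (isOpenMap_map_of_repWith etale_le_universallyOpen haW).isOpen_range
  obtain ⟨XT, jT, hXT, hjT, hrange⟩ := exists_open_subspace hX hopen
  haveI := mono_of_openImmersion hjT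
  obtain ⟨a', ha'⟩ := exists_factor_open hjT aW hrange.ge
  have ha'e : RepWith @Etale a' :=
    repWith_of_isPullback (IsPullback.of_horiz_isIso_mono (fst := 𝟙 _) (snd := a') (f := aW) (g := jT)
      ⟨by rw [Category.id_comp, ha']⟩) haW
  have ha's : RepWith @Surjective a' := repWith_surjective_of_map (hXT.representable_from_yon a') fun y => by
    obtain ⟨z, hz⟩ := hrange.le ⟨y, rfl⟩
    exact ⟨z, injective_map_of_mono jT (by rw [← Points.map_comp, ha', hz])⟩
  have hcomm : a' ≫ (jT ≫ f) = (yon S).map (openIncl U W ≫ h) ≫ b := by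
    rw [reassoc_of% ha', Category.assoc, comm, Functor.map_comp, Category.assoc]
  have hqfT : LocP (@LocallyQuasiFinite ⊓ @LocallyOfFiniteType) (jT ≫ f) :=
    locP_of_one_chart (etLocal_inf etLocal_lqf etLocal_lft) (openIncl U W ≫ h) ha'e ha's hb hcomm ⟨hWq, hWt⟩
  have hsepT : IsSeparatedMor (jT ≫ f) := isSeparatedMor_comp (isSeparatedMor_of_mono jT) hsep
  obtain ⟨T₁, γ, δ, sqT⟩ := representable_of_lqf_separated hXT hY hsepT hqfT b
  have hγ := locP_yon_map (locP_of_isPullback (etLocal_inf etLocal_lqf etLocal_lft) sqT hXT hY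
    (IsAlgSpace.yon_obj V₀) hqfT)
  haveI : LocallyQuasiFinite γ.left := hγ.1
  haveI : LocallyOfFiniteType γ.left := hγ.2
  haveI : IsSeparated γ.left := (isSeparatedMor_yon_map_iff γ).1 (isSeparatedMor_of_isPullback sqT hsepT)
  obtain ⟨lw, hlw⟩ := (yon S).map_surjective (sqT.lift a' ((yon S).map (openIncl U W ≫ h)) hcomm)
  let t₁ : T₁.left := lw.left ⟨u, huW⟩
  have ht₁ : Points.ofPt (δ ≫ jT) t₁ = Points.ofPt a u := by
    have e : (yon S).map lw ≫ δ ≫ jT = (yon S).map (openIncl U W) ≫ a := by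
      rw [hlw, sqT.lift_fst_assoc, ha']
    have := congrArg (fun e => Points.ofPt e (⟨u, huW⟩ : (openOver U W).left)) e
    simp only [ofPt_map] at this
    exact this
  obtain ⟨U₀, g₀, hg₀, -, Vp, -, ⟨t₂, ht₂⟩, -, hfin, hfst⟩ :=
    exists_etale_isCompl_of_quasiFiniteAt γ.left (s := γ.left t₁) rfl (γ.left.quasiFiniteAt t₁)
  let V₁ : Over S := Over.mk (g₀ ≫ V₀.hom)
  let g₁ : V₁ ⟶ V₀ := Over.homMk g₀ rfl
  let v : (yon S).obj V₁ ⟶ Y := (yon S).map g₁ ≫ b
  have hv : RepWith @Etale v := repWith_comp ((repWith_yon_map_iff _ _).2 hg₀) hb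
  let F : Over S := Over.mk ((Vp.ι ≫ pullback.fst γ.left g₀) ≫ T₁.hom)
  let e₁ : F ⟶ T₁ := Over.homMk (Vp.ι ≫ pullback.fst γ.left g₀) rfl
  let bF : F ⟶ V₁ := Over.homMk (Vp.ι ≫ pullback.snd γ.left g₀) (by
    change (Vp.ι ≫ pullback.snd γ.left g₀) ≫ g₀ ≫ V₀.hom = (Vp.ι ≫ pullback.fst γ.left g₀) ≫ T₁.hom
    rw [Category.assoc, Category.assoc, ← pullback.condition_assoc, Over.w γ])
  let T₂ : Over S := Over.mk (pullback.fst γ.left g₀ ≫ T₁.hom)
  let c₁ : T₂ ⟶ T₁ := Over.homMk (pullback.fst γ.left g₀) rfl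
  let c₂ : T₂ ⟶ V₁ := Over.homMk (pullback.snd γ.left g₀) (by
    change pullback.snd γ.left g₀ ≫ g₀ ≫ V₀.hom = pullback.fst γ.left g₀ ≫ T₁.hom
    rw [← pullback.condition_assoc, Over.w γ])
  have sq₂ : IsPullback c₁ c₂ γ g₁ := isPullback_of_left (IsPullback.of_hasPullback γ.left g₀)
  have sqc := (sq₂.map (yon S)).paste_horiz sqT
  have sP := IsPullback.of_hasPullback f v
  let j₂ : (yon S).obj T₂ ⟶ pullback f v :=
    pullback.lift ((yon S).map c₁ ≫ δ ≫ jT) ((yon S).map c₂) (by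
      simp only [Category.assoc]; rw [← sqc.w, Category.assoc])
  have sq₃ : IsPullback ((yon S).map c₁ ≫ δ) j₂ jT (pullback.fst f v) :=
    IsPullback.of_bot (by rw [pullback.lift_snd]; exact sqc) (by rw [Category.assoc, pullback.lift_fst]) sP
  have hj₂ : RepWith @IsOpenImmersion j₂ := repWith_of_isPullback sq₃ hjT
  let kF : F ⟶ T₂ := Over.homMk Vp.ι (by
    change Vp.ι ≫ pullback.fst γ.left g₀ ≫ T₁.hom = (Vp.ι ≫ pullback.fst γ.left g₀) ≫ T₁.hom
    rw [Category.assoc])
  let i : (yon S).obj F ⟶ pullback f v := (yon S).map kF ≫ j₂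
  have hi : RepWith @IsOpenImmersion i :=
    repWith_comp ((repWith_yon_map_iff _ _).2 (inferInstanceAs (IsOpenImmersion Vp.ι))) hj₂
  have hib : i ≫ pullback.snd f v = (yon S).map bF := by
    rw [Category.assoc, pullback.lift_snd, ← Functor.map_comp]
    exact congrArg _ (Over.OverMorphism.ext rfl)
  have hP : IsAlgSpace (pullback f v) := isAlgSpace_pullback hY.diag hX (IsAlgSpace.yon_obj V₁) _ _
  have hprop : IsProperMor i := isProperMor_of_comp (IsAlgSpace.yon_obj F) hP (IsAlgSpace.yon_obj V₁)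
    (by rw [hib]; exact isUnivClosedMor_of_finite bF hfin) (isSeparatedMor_of_isPullback sP hsep)
  refine ⟨V₁, v, hv, F, bF, i, hfin, hi, isClosed_range_of_isUnivClosedMor hP hprop.2.2, hib, (⟨t₂, ht₂⟩ : Vp), ?_⟩
  rw [← ht₁, Category.assoc, pullback.lift_fst, ← Category.assoc, ← Functor.map_comp, ofPt_map]
  exact congrArg _ hfst

/-- An etale chart of the normalization over which the source maps isomorphically, through a point of
the quasi-finite locus. -/
theorem exists_iso_nbhd (hX : IsAlgSpace X) (hY : IsAlgSpace Y) (hY' : IsAlgSpace Y')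
    (hqc : IsQuasiCompactMor f) (hsep : IsSeparatedMor f) {ν : Y' ⟶ Y} {f' : X ⟶ Y'}
    (hn : IsRelNormalization f ν f') {x : Points X} (hx : HasAtMor QFPred f x) :
    ∃ (F B : Over S) (a : (yon S).obj F ⟶ X) (e : (yon S).obj B ⟶ Y') (ι : F ⟶ B),
      RepWith @Etale e ∧ IsIso ι ∧ IsPullback a ((yon S).map ι) f' e ∧
      (∀ t, HasAtMor QFPred f (Points.ofPt a t)) ∧ ∃ t, Points.ofPt a t = x := by
  have hqs : IsQuasiSeparatedMor f :=
    repWith_le (fun _ _ k (_ : IsClosedImmersion k) => inferInstanceAs (QuasiCompact k)) hsep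
  obtain ⟨V, v, hv, F, b, i, hfin, hi, hcl, hib, t₀, ht₀⟩ := exists_finite_piece hX hY hsep hx
  obtain ⟨N, νN, bN, sqN⟩ := (isIntegralMor_iff.1 hn.2.1).1 v
  have sP := IsPullback.of_hasPullback f v
  let m : pullback f v ⟶ (yon S).obj N := sqN.lift (pullback.fst f v ≫ f') (pullback.snd f v)
    (by rw [Category.assoc, hn.1, pullback.condition])
  have hm1 : m ≫ bN = pullback.fst f v ≫ f' := sqN.lift_fst _ _ _
  have hm2 : m ≫ (yon S).map νN = pullback.snd f v := sqN.lift_snd _ _ _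
  have hP : IsAlgSpace (pullback f v) := isAlgSpace_pullback hY.diag hX (IsAlgSpace.yon_obj V) _ _
  have hN := fullAt_of_isRelNormalization hX hY hY' hqc hqs hn (IsAlgSpace.yon_obj V) v
    (locP_smooth_of_isEtaleMor fun _ _ hφ => repWith_comp hφ hv) _ _ _ _ m sP sqN hm1 hm2
  obtain ⟨B, o, ι, ho, hι, sqι⟩ := exists_split_iso hP hN hi hcl b hib hfin
  haveI := ho
  have hbN : RepWith @Etale bN := repWith_of_isPullback sqN.flip hv
  have sqm : IsPullback (pullback.fst f v) m f' bN :=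
    IsPullback.of_bot (by rw [hm2, hn.1]; exact sP) hm1.symm sqN
  have hie : RepWith @Etale (i ≫ pullback.fst f v) :=
    repWith_comp (repWith_le (fun _ _ k (_ : IsOpenImmersion k) => inferInstanceAs (Etale k)) hi)
      (repWith_of_isPullback sP.flip hv)
  refine ⟨F, B, i ≫ pullback.fst f v, (yon S).map o ≫ bN, ι,
    repWith_comp ((repWith_yon_map_iff _ _).2 (inferInstanceAs (Etale o.left))) hbN, hι,
    sqι.paste_horiz sqm, fun t => ?_, t₀, ht₀⟩
  refine ⟨F, V, i ≫ pullback.fst f v, v, b, t, hie, hv,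
    by rw [Category.assoc, sP.w, reassoc_of% hib], rfl, ⊤, trivial, ?_, ?_⟩
  · haveI := hfin
    exact MorphismProperty.comp_mem _ _ _ (inferInstanceAs (LocallyQuasiFinite (⊤ : F.left.Opens).ι))
      (inferInstanceAs (LocallyQuasiFinite b.left))
  · haveI := hfin
    infer_instance

theorem exists_iso_over_qfLocus (hX : IsAlgSpace X) (hY : IsAlgSpace Y) (hY' : IsAlgSpace Y')
    (hft : IsFiniteTypeMor f) (hsep : IsSeparatedMor f) {ν : Y' ⟶ Y} {f' : X ⟶ Y'}
    (hn : IsRelNormalization f ν f') :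
    ∃ (U' : Sp S) (j : U' ⟶ Y'), IsAlgSpace U' ∧ RepWith @IsOpenImmersion j ∧
      ∀ (P : Sp S) (fst : P ⟶ X) (snd : P ⟶ U'), IsPullback fst snd f' j →
        IsIso snd ∧ Set.range (Points.map fst) = {x | HasAtMor QFPred f x} := by
  classical
  let E : Set (Points Y') := {y | ∃ (F B : Over S) (a : (yon S).obj F ⟶ X) (e : (yon S).obj B ⟶ Y') (ι : F ⟶ B),
    RepWith @Etale e ∧ IsIso ι ∧ IsPullback a ((yon S).map ι) f' e ∧
      (∀ t, HasAtMor QFPred f (Points.ofPt a t)) ∧ y ∈ Set.range (Points.map e)}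
  have hE : IsOpen E := isOpen_iff_forall_mem_open.2 fun y ⟨F, B, a, e, ι, he, hι, sq, hq, hy⟩ =>
    ⟨Set.range (Points.map e), fun z hz => ⟨F, B, a, e, ι, he, hι, sq, hq, hz⟩,
      (isOpenMap_map_of_repWith etale_le_universallyOpen he).isOpen_range, hy⟩
  obtain ⟨U', j, hU', hj, hrange⟩ := exists_open_subspace hY' hE
  haveI := mono_of_openImmersion hj
  refine ⟨U', j, hU', hj, fun P fst snd sq => ⟨?_, ?_⟩⟩
  · have hloc : ∀ (T : Over S) (y : (yon S).obj T ⟶ U'), ∃ (κ : Type u) (C : κ → Over S) (c : ∀ k, C k ⟶ T),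
        Sieve.ofArrows C c ∈ J S T ∧ ∀ k, ∃ (F B : Over S) (a : (yon S).obj F ⟶ X)
          (e : (yon S).obj B ⟶ Y') (ι : F ⟶ B) (z : C k ⟶ B), IsIso ι ∧
            IsPullback a ((yon S).map ι) f' e ∧ (yon S).map z ≫ e = (yon S).map (c k) ≫ y ≫ j := by
      intro T y
      have hy : ∀ t : T.left, Points.ofPt (y ≫ j) t ∈ E := fun t =>
        hrange ▸ ⟨_, Points.map_ofPt _ _ _⟩
      choose F B a e ι he hι sqe hq hmem using hy
      choose C c z sqC using fun t => (he t).rep (y ≫ j)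
      choose z' hz' using fun t => (yon S).map_surjective (z t)
      haveI : ∀ t, Etale (c t).left := fun t => (he t).property _ _ _ (sqC t)
      refine ⟨T.left, C, c, ofArrows_mem_J c (fun t => inferInstance) (fun t => inferInstance) fun t => ⟨t,
        (preimage_ofPt_range (sqC t)).le (hmem t)⟩, fun t => ?_⟩
      exact ⟨F t, B t, a t, e t, ι t, z' t, hι t, sqe t, by rw [hz', (sqC t).w]⟩
    haveI : Mono snd := mono_of_yon fun T p q hpq => by
      obtain ⟨κ, C, c, hc, hl⟩ := hloc T (p ≫ snd)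
      refine Groth.Agent.H13AlgSp.hom_ext_of_cover c hc fun k => ?_
      obtain ⟨F, B, a, e, ι, z, hι, sqe, hz⟩ := hl k
      obtain ⟨lp, hlp1, hlp2⟩ : ∃ l, l ≫ a = (yon S).map (c k) ≫ p ≫ fst ∧ l ≫ (yon S).map ι = (yon S).map z :=
        ⟨sqe.lift ((yon S).map (c k) ≫ p ≫ fst) ((yon S).map z) (by
          rw [hz, Category.assoc, Category.assoc, Category.assoc, sq.w]), sqe.lift_fst _ _ _, sqe.lift_snd _ _ _⟩
      obtain ⟨lq, hlq1, hlq2⟩ : ∃ l, l ≫ a = (yon S).map (c k) ≫ q ≫ fst ∧ l ≫ (yon S).map ι = (yon S).map z :=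
        ⟨sqe.lift ((yon S).map (c k) ≫ q ≫ fst) ((yon S).map z) (by
          rw [hz, Category.assoc, Category.assoc, Category.assoc, sq.w, reassoc_of% hpq]), sqe.lift_fst _ _ _,
          sqe.lift_snd _ _ _⟩
      apply sq.hom_ext
      · rw [Category.assoc, Category.assoc, ← hlp1, ← hlq1,
          show lp = lq from (cancel_mono ((yon S).map ι)).1 (hlp2.trans hlq2.symm)]
      · rw [Category.assoc, Category.assoc, hpq]
    exact isIso_of_mono_of_local_lifts snd fun T y => by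
      obtain ⟨κ, C, c, hc, hl⟩ := hloc T y
      refine ⟨κ, C, c, hc, fun k => ?_⟩
      obtain ⟨F, B, a, e, ι, z, hι, sqe, hz⟩ := hl k
      haveI := hι
      refine ⟨sq.lift ((yon S).map (z ≫ inv ι) ≫ a) ((yon S).map (c k) ≫ y) ?_, sq.lift_snd _ _ _⟩
      rw [Category.assoc, sqe.w, ← Category.assoc, ← Functor.map_comp, Category.assoc, IsIso.inv_hom_id,
        Category.comp_id, hz, Category.assoc]
  · ext x
    constructor
    · rintro ⟨p, rfl⟩
      have hmem : Points.map j (Points.map snd p) ∈ E := hrange ▸ ⟨_, rfl⟩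
      obtain ⟨F, B, a, e, ι, he, hι, sqe, hq, z, hz⟩ := hmem
      obtain ⟨w, hw, -⟩ := exists_point_of_isPullback sqe (Points.map fst p) z
        (by rw [hz, ← Points.map_comp, ← Points.map_comp, sq.w])
      obtain ⟨t, rfl⟩ : ∃ t, Points.ofScheme F t = w := ⟨(Points.schemeEquiv F).symm w, (Points.schemeEquiv F).apply_symm_apply w⟩
      rw [Set.mem_setOf_eq, ← hw, ← Points.ofPt_eq_map_ofScheme]
      exact hq t
    · intro hx
      obtain ⟨F, B, a, e, ι, he, hι, sqe, hq, t, ht⟩ := exists_iso_nbhd hX hY hY' hft.2 hsep hn hx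
      have hmem : Points.map f' x ∈ Set.range (Points.map j) := hrange.symm ▸
        ⟨F, B, a, e, ι, he, hι, sqe, hq, Points.map ((yon S).map ι) (Points.ofScheme F t), by
          rw [← ht, Points.ofPt_eq_map_ofScheme, ← Points.map_comp, ← Points.map_comp, sqe.w]⟩
      obtain ⟨u, hu⟩ := hmem
      obtain ⟨p, hp, -⟩ := exists_point_of_isPullback sq x u hu.symm
      exact ⟨p, hp⟩

end Groth.Agent.H12AlgSp.NormSp
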