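import Groth.Agent.H12AlgSp.NormSp.BaseChange
import Groth.Agent.H12AlgSp.OpenSub
import Mathlib.AlgebraicGeometry.Morphisms.Finite

/-!
A finite clopen piece of the source splits off from the normalization.
-/

set_option autoImplicit false
set_option linter.style.haveILetI false

universe u

open CategoryTheory CategoryTheory.Limits AlgebraicGeometry Opposite
open AlgSp Groth.Agent.H13AlgSp

namespace Groth.Agent.H12AlgSp.NormSp

variable {S : Scheme.{u}}

theorem mono_of_left {V W : Over S} (j : V ⟶ W) [Mono j.left] : Mono ((yon S).map j) := by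
  haveI : Mono ((Over.forget S).map j) := inferInstanceAs (Mono j.left)
  haveI : Mono j := (Over.forget S).mono_of_mono_map ‹_›
  exact (yon S).map_mono j

theorem exists_lift_openIncl {P R : Sp S} {r : R ⟶ P} (hr : RepWith @IsOpenImmersion r) {T : Over S}
    (y : (yon S).obj T ⟶ P) (O : T.left.Opens) (h : ∀ t ∈ O, Points.ofPt y t ∈ Set.range (Points.map r)) :
    ∃ l, l ≫ r = (yon S).map (openIncl T O) ≫ y :=
  exists_factor_open hr _ (mem_of_mem_map_ofPt fun T' g' t => by
    obtain ⟨g₀, rfl⟩ := (yon S).map_surjective g'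
    rw [← Category.assoc, ← Functor.map_comp, ofPt_map]
    exact h _ (g₀.left t).2)

theorem exists_split_iso {P : Sp S} (hP : IsAlgSpace P) {V N F : Over S} {g : P ⟶ (yon S).obj V}
    {ν : N ⟶ V} {m : P ⟶ (yon S).obj N} (hn : IsRelNormalization g ((yon S).map ν) m)
    {i : (yon S).obj F ⟶ P} (hi : RepWith @IsOpenImmersion i) (hcl : IsClosed (Set.range (Points.map i)))
    (b : F ⟶ V) (hib : i ≫ g = (yon S).map b) (hb : IsFinite b.left) :
    ∃ (B : Over S) (o : B ⟶ N) (ι : F ⟶ B), IsOpenImmersion o.left ∧ IsIso ι ∧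
      IsPullback i ((yon S).map ι) m ((yon S).map o) := by
  classical
  haveI hmi := mono_of_openImmersion hi
  obtain ⟨R, r, -, hr, hrange⟩ := exists_open_subspace hP hcl.isOpen_compl
  haveI := mono_of_openImmersion hr
  haveI := hb
  haveI hνi : IsIntegralHom ν.left := (repWith_yon_map_iff _ _).1 (isIntegralMor_iff.1 hn.2.1)
  let Z : Over S := Over.mk (coprod.desc F.hom V.hom)
  let jF : F ⟶ Z := Over.homMk coprod.inl (coprod.inl_desc _ _)
  let jV : V ⟶ Z := Over.homMk coprod.inr (coprod.inr_desc _ _)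
  haveI : IsOpenImmersion jF.left := inferInstanceAs (IsOpenImmersion (coprod.inl : F.left ⟶ F.left ⨿ V.left))
  haveI : IsOpenImmersion jV.left := inferInstanceAs (IsOpenImmersion (coprod.inr : V.left ⟶ F.left ⨿ V.left))
  let π : Z ⟶ V := Over.homMk (coprod.desc b.left (𝟙 V.left)) (by
    refine coprod.hom_ext ?_ ?_
    · change coprod.inl ≫ coprod.desc _ _ ≫ V.hom = coprod.inl ≫ coprod.desc _ _
      rw [coprod.inl_desc_assoc, coprod.inl_desc, Over.w b]
    · change coprod.inr ≫ coprod.desc _ _ ≫ V.hom = coprod.inr ≫ coprod.desc _ _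
      rw [coprod.inr_desc_assoc, coprod.inr_desc, Category.id_comp])
  have hjFπ : jF ≫ π = b := Over.OverMorphism.ext (coprod.inl_desc _ _)
  have hjVπ : jV ≫ π = 𝟙 V := Over.OverMorphism.ext (coprod.inr_desc _ _)
  have hπ : IsIntegralMor ((yon S).map π) := isIntegralMor_iff.2 ((repWith_yon_map_iff _ _).2
    (inferInstanceAs (IsIntegralHom (coprod.desc b.left (𝟙 V.left)))))
  -- the two pieces cover
  let Wy : ∀ {T : Over S}, ((yon S).obj T ⟶ P) → ULift.{u} Bool → T.left.Opens := fun y c => match c with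
    | ⟨true⟩ => ⟨Points.ofPt y ⁻¹' Set.range (Points.map i), (isOpenMap_map_of_repWith (P := @IsOpenImmersion)
        (fun _ _ k (_ : IsOpenImmersion k) => inferInstanceAs (UniversallyOpen k)) hi).isOpen_range.preimage
        (Points.continuous_ofPt y)⟩
    | ⟨false⟩ => ⟨Points.ofPt y ⁻¹' (Set.range (Points.map i))ᶜ, hcl.isOpen_compl.preimage (Points.continuous_ofPt y)⟩
  have hlift : ∀ {T : Over S} (y : (yon S).obj T ⟶ P),
      Sieve.ofArrows (fun c => openOver T (Wy y c)) (fun c => openIncl T (Wy y c)) ∈ J S T := fun {T} y => by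
    refine ofArrows_mem_J _ (fun c => inferInstanceAs (Flat (Scheme.Opens.ι _)))
      (fun c => inferInstanceAs (LocallyOfFinitePresentation (Scheme.Opens.ι _))) fun t => ?_
    by_cases h : Points.ofPt y t ∈ Set.range (Points.map i)
    · exact ⟨⟨true⟩, ⟨t, h⟩, rfl⟩
    · exact ⟨⟨false⟩, ⟨t, h⟩, rfl⟩
  have hliftR : ∀ {T : Over S} (y : (yon S).obj T ⟶ P),
      ∃ l, l ≫ r = (yon S).map (openIncl T (Wy y ⟨false⟩)) ≫ y :=
    fun y => exists_lift_openIncl hr y _ fun t ht => by rw [hrange]; exact ht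
  have hliftF : ∀ {T : Over S} (y : (yon S).obj T ⟶ P),
      ∃ l, l ≫ i = (yon S).map (openIncl T (Wy y ⟨true⟩)) ≫ y :=
    fun y => exists_lift_openIncl hi y _ fun t ht => ht
  have hcases : ∀ {H : Sp S} (p q : P ⟶ H), i ≫ p = i ≫ q → r ≫ p = r ≫ q → p = q := by
    intro H p q h1 h2
    refine hom_ext_yon fun T y => Groth.Agent.H13AlgSp.hom_ext_of_cover _ (hlift y) fun c => ?_
    rcases c with ⟨_ | _⟩
    · obtain ⟨l, hl⟩ := hliftR y
      rw [← Category.assoc, ← hl, Category.assoc, h2, ← Category.assoc, hl, Category.assoc]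
    · obtain ⟨l, hl⟩ := hliftF y
      rw [← Category.assoc, ← hl, Category.assoc, h1, ← Category.assoc, hl, Category.assoc]
  let a : ∀ c : Bool, (Bool.rec R ((yon S).obj F) c : Sp S) ⟶ P := fun c => Bool.rec r i c
  have hcov : Covers a := covers_of_lifts fun T y => ⟨ULift.{u} Bool, _, _, hlift y, fun c => by
    rcases c with ⟨_ | _⟩
    · obtain ⟨l, hl⟩ := hliftR y
      exact ⟨false, l, hl⟩
    · obtain ⟨l, hl⟩ := hliftF y
      exact ⟨true, l, hl⟩⟩
  have hdisj : ∀ {T : Over S} (x : (yon S).obj T ⟶ (yon S).obj F) (y : (yon S).obj T ⟶ R),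
      x ≫ i = y ≫ r → IsEmpty T.left := fun {T} x y h => ⟨fun t => by
    have h1 : Points.ofPt (x ≫ i) t ∈ Set.range (Points.map i) := ⟨_, Points.map_ofPt _ _ _⟩
    have h2 : Points.ofPt (y ≫ r) t ∈ Set.range (Points.map r) := ⟨_, Points.map_ofPt _ _ _⟩
    rw [h] at h1
    rw [hrange] at h2
    exact h2 h1⟩
  let q : ∀ c : Bool, (Bool.rec R ((yon S).obj F) c : Sp S) ⟶ (yon S).obj Z :=
    fun c => Bool.rec ((r ≫ g) ≫ (yon S).map jV) ((yon S).map jF) c
  obtain ⟨k, hk, -⟩ := hcov.existsUnique_glue q fun c c' T x y hxy => by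
    cases c <;> cases c'
    · rw [show x = y from (cancel_mono r).1 hxy]
    · haveI := hdisj y x hxy.symm
      exact hom_ext_of_isEmpty _ _
    · haveI := hdisj x y hxy
      exact hom_ext_of_isEmpty _ _
    · rw [show x = y from (cancel_mono i).1 hxy]
  have hki : i ≫ k = (yon S).map jF := hk true
  have hkr : r ≫ k = (r ≫ g) ≫ (yon S).map jV := hk false
  obtain ⟨h, ⟨hh1, hh2⟩, -⟩ := hn.2.2 (IsAlgSpace.yon_obj Z) ((yon S).map π) k hπ (hcases _ _
    (by rw [reassoc_of% hki, ← Functor.map_comp, hjFπ, hib])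
    (by rw [reassoc_of% hkr, ← Functor.map_comp, hjVπ, CategoryTheory.Functor.map_id, Category.comp_id]))
  obtain ⟨h₀, rfl⟩ := (yon S).map_surjective h
  have hh0 : h₀ ≫ π = ν := (yon S).map_injective (by rw [Functor.map_comp, hh2])
  let O : N.left.Opens := h₀.left ⁻¹ᵁ jF.left.opensRange
  let O' : N.left.Opens := h₀.left ⁻¹ᵁ jV.left.opensRange
  have hOO : IsCompl (O : Set N.left) (O' : Set N.left) := by
    have h := isCompl_range_inl_inr F.left V.left
    exact ⟨disjoint_iff_inf_le.2 fun t ⟨h1, h2⟩ => h.disjoint.le_bot ⟨h1, h2⟩,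
      codisjoint_iff_le_sup.2 fun t _ => (h.codisjoint.top_le (Set.mem_univ (h₀.left t))).elim Or.inl Or.inr⟩
  let φ₀ : O.toScheme ⟶ F.left :=
    IsOpenImmersion.lift jF.left (O.ι ≫ h₀.left) (by rintro _ ⟨t, rfl⟩; exact t.2)
  have hφ₀ : φ₀ ≫ jF.left = O.ι ≫ h₀.left := IsOpenImmersion.lift_fac _ _ _
  let φ : openOver N O ⟶ F := Over.homMk φ₀ (by
    change φ₀ ≫ F.hom = O.ι ≫ N.hom
    rw [← Over.w jF, reassoc_of% hφ₀, Over.w h₀])
  have hφ : φ ≫ jF = openIncl N O ≫ h₀ := Over.OverMorphism.ext hφ₀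
  obtain ⟨im, him⟩ := (yon S).map_surjective (i ≫ m)
  have himh : im ≫ h₀ = jF := (yon S).map_injective (by
    rw [Functor.map_comp, him, Category.assoc, hh1, hki])
  let iN₀ : F.left ⟶ O.toScheme := IsOpenImmersion.lift O.ι im.left (by
    rw [Scheme.Opens.range_ι]
    rintro _ ⟨t, rfl⟩
    change h₀.left (im.left t) ∈ Set.range jF.left
    exact ⟨t, (congrArg (fun e => e.left t) himh).symm⟩)
  have hiN₀ : iN₀ ≫ O.ι = im.left := IsOpenImmersion.lift_fac _ _ _
  let iN : F ⟶ openOver N O := Over.homMk iN₀ (by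
    change iN₀ ≫ O.ι ≫ N.hom = F.hom
    rw [reassoc_of% hiN₀, Over.w im])
  have hiN : iN ≫ openIncl N O = im := Over.OverMorphism.ext hiN₀
  haveI : Mono ((Over.forget S).map jF) := inferInstanceAs (Mono jF.left)
  haveI : Mono jF := (Over.forget S).mono_of_mono_map ‹_›
  have hNφ : iN ≫ φ = 𝟙 F := by
    rw [← cancel_mono jF, Category.assoc, hφ, reassoc_of% hiN, himh, Category.id_comp]
  -- the other composite
  let W : ULift.{u} Bool → N.left.Opens := fun c => if c.down then O else O'
  have hW : ∀ t : N.left, ∃ c, t ∈ Set.range (openIncl N (W c)).left := fun t => by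
    rcases hOO.codisjoint.top_le (Set.mem_univ t) with h | h
    · exact ⟨⟨true⟩, ⟨t, h⟩, rfl⟩
    · exact ⟨⟨false⟩, ⟨t, h⟩, rfl⟩
  have hNcov : Covers (fun c => (yon S).map (openIncl N (W c))) :=
    covers_open _ (fun c => inferInstanceAs (IsOpenImmersion (Scheme.Opens.ι _))) hW
  haveI : ∀ c, Mono ((yon S).map (openIncl N (W c))) := fun c => by
    haveI : Mono (openIncl N (W c)).left := inferInstanceAs (Mono (Scheme.Opens.ι _))
    exact mono_of_left _
  have hdisjN : ∀ {T : Over S} (x : (yon S).obj T ⟶ (yon S).obj (openOver N O))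
      (y : (yon S).obj T ⟶ (yon S).obj (openOver N O')),
      x ≫ (yon S).map (openIncl N O) = y ≫ (yon S).map (openIncl N O') → IsEmpty T.left := fun {T} x y e => by
    obtain ⟨x₀, rfl⟩ := (yon S).map_surjective x
    obtain ⟨y₀, rfl⟩ := (yon S).map_surjective y
    rw [← Functor.map_comp, ← Functor.map_comp] at e
    refine ⟨fun t => hOO.disjoint.le_bot (show (x₀.left t).1 ∈ (O : Set N.left) ∩ (O' : Set N.left) from
      ⟨(x₀.left t).2, ?_⟩)⟩
    have := congrArg (fun e => e.left t) ((yon S).map_injective e)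
    change (x₀.left t).1 = (y₀.left t).1 at this
    rw [this]
    exact (y₀.left t).2
  obtain ⟨h₂, hh₂, -⟩ := hNcov.existsUnique_glue (Z := (yon S).obj N)
    (fun c => match c with
      | ⟨true⟩ => (yon S).map (φ ≫ iN ≫ openIncl N O)
      | ⟨false⟩ => (yon S).map (openIncl N O'))
    fun c c' T x y hxy => by
      rcases c with ⟨_ | _⟩ <;> rcases c' with ⟨_ | _⟩
      · rw [show x = y from (cancel_mono ((yon S).map (openIncl N (W ⟨false⟩)))).1 hxy]
      · haveI := hdisjN y x hxy.symm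
        exact hom_ext_of_isEmpty _ _
      · haveI := hdisjN x y hxy
        exact hom_ext_of_isEmpty _ _
      · rw [show x = y from (cancel_mono ((yon S).map (openIncl N (W ⟨true⟩)))).1 hxy]
  have h₂O : (yon S).map (openIncl N O) ≫ h₂ = (yon S).map (φ ≫ iN ≫ openIncl N O) := hh₂ ⟨true⟩
  have h₂O' : (yon S).map (openIncl N O') ≫ h₂ = (yon S).map (openIncl N O') := hh₂ ⟨false⟩
  obtain ⟨_, -, hid⟩ := hn.2.2 (IsAlgSpace.yon_obj N) ((yon S).map ν) m hn.2.1 hn.1
  have hmem : ∀ {T : Over S} (z : T ⟶ N) (O₀ : N.left.Opens), (∀ t, z.left t ∈ O₀) →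
      ∃ z' : T ⟶ openOver N O₀, z' ≫ openIncl N O₀ = z := fun {T} z O₀ hz => by
    let l : T.left ⟶ O₀.toScheme :=
      IsOpenImmersion.lift O₀.ι z.left (by rintro _ ⟨t, rfl⟩; rw [Scheme.Opens.range_ι]; exact hz t)
    have hl : l ≫ O₀.ι = z.left := IsOpenImmersion.lift_fac _ _ _
    exact ⟨Over.homMk (U := T) (V := openOver N O₀) l (by
      change l ≫ O₀.ι ≫ N.hom = T.hom
      rw [reassoc_of% hl, Over.w z]), Over.OverMorphism.ext hl⟩
  have h2one : h₂ = 𝟙 _ := (hid h₂ ⟨hcases _ _ (by
      rw [← Category.assoc, ← him, ← hiN, Functor.map_comp, Category.assoc, h₂O, ← Functor.map_comp,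
        reassoc_of% hNφ, Functor.map_comp])
    (hom_ext_yon fun T y => by
      obtain ⟨z, hz⟩ := (yon S).map_surjective (y ≫ r ≫ m)
      obtain ⟨z', hz'⟩ := hmem z O' fun t => by
        obtain ⟨v, hv⟩ := (yon S).map_surjective (y ≫ r ≫ g)
        have e : z ≫ h₀ = v ≫ jV := (yon S).map_injective (by
          rw [Functor.map_comp, Functor.map_comp, hz, hv, Category.assoc, Category.assoc, hh1, hkr]
          simp only [Category.assoc])
        exact ⟨v.left t, (congrArg (fun e => e.left t) e).symm⟩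
      rw [← Category.assoc, ← Category.assoc, Category.assoc y r m, ← hz, ← hz', Functor.map_comp,
        Category.assoc, h₂O', ← Functor.map_comp, hz', hz]),
    hNcov.hom_ext fun c => by
      rcases c with ⟨_ | _⟩
      · rw [show (yon S).map (openIncl N (W ⟨false⟩)) = (yon S).map (openIncl N O') from rfl, reassoc_of% h₂O']
      · rw [show (yon S).map (openIncl N (W ⟨true⟩)) = (yon S).map (openIncl N O) from rfl, reassoc_of% h₂O,
          ← Functor.map_comp, ← Functor.map_comp]
        refine congrArg _ ?_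
        rw [Category.assoc, Category.assoc, reassoc_of% hiN, ← hh0, reassoc_of% himh, reassoc_of% hφ]⟩).trans
    (hid (𝟙 _) ⟨Category.comp_id _, Category.id_comp _⟩).symm
  haveI : Mono (openIncl N O) := by
    haveI : Mono ((Over.forget S).map (openIncl N O)) := inferInstanceAs (Mono O.ι)
    exact (Over.forget S).mono_of_mono_map ‹_›
  have hφN : φ ≫ iN = 𝟙 _ := by
    rw [← cancel_mono (openIncl N O), Category.assoc, Category.id_comp]
    exact (yon S).map_injective (by rw [← h₂O, h2one, Category.comp_id])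
  refine ⟨openOver N O, openIncl N O, iN, inferInstanceAs (IsOpenImmersion O.ι), ⟨φ, hNφ, hφN⟩, ?_⟩
  have hw : i ≫ m = (yon S).map iN ≫ (yon S).map (openIncl N O) := by rw [← Functor.map_comp, hiN, him]
  let L := pullback.lift i ((yon S).map iN) hw
  haveI : Mono (L ≫ pullback.fst m ((yon S).map (openIncl N O))) := by rw [pullback.lift_fst]; infer_instance
  haveI : Mono L := mono_of_mono L (pullback.fst m ((yon S).map (openIncl N O)))
  haveI : IsIso L := isIso_of_mono_of_local_lifts L fun T y => by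
    obtain ⟨z, hz⟩ := (yon S).map_surjective (y ≫ pullback.snd m ((yon S).map (openIncl N O)))
    obtain ⟨l, hl⟩ := exists_factor_open hi (y ≫ pullback.fst m _) (mem_of_mem_map_ofPt fun T' g' t => by
      by_contra hcon
      obtain ⟨g₀, rfl⟩ := (yon S).map_surjective g'
      let O₁ : T'.left.Opens := ⟨Points.ofPt ((yon S).map g₀ ≫ y ≫ pullback.fst m _) ⁻¹'
        (Set.range (Points.map i))ᶜ, hcl.isOpen_compl.preimage (Points.continuous_ofPt _)⟩
      obtain ⟨w, hw'⟩ := exists_factor_open hr ((yon S).map (openIncl T' O₁) ≫ (yon S).map g₀ ≫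
        y ≫ pullback.fst m _) (mem_of_mem_map_ofPt fun T'' g'' t'' => by
          obtain ⟨g₁, rfl⟩ := (yon S).map_surjective g''
          rw [hrange, ← Category.assoc, ← Functor.map_comp, ofPt_map]
          exact (g₁.left t'').2)
      obtain ⟨v, hv⟩ := (yon S).map_surjective (w ≫ r ≫ g)
      have e : (openIncl T' O₁ ≫ g₀ ≫ z) ≫ openIncl N O ≫ h₀ = v ≫ jV := (yon S).map_injective (by
        simp only [Functor.map_comp, hz, hv, Category.assoc]
        rw [← Category.assoc (pullback.snd m _), ← pullback.condition, Category.assoc, hh1,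
          ← Category.assoc r g, ← hkr, reassoc_of% hw'])
      have e' := congrArg (fun e => e.left ⟨t, hcon⟩) e
      exact (isCompl_range_inl_inr F.left V.left).disjoint.le_bot
        (show jV.left (v.left ⟨t, hcon⟩) ∈ Set.range jF.left ∩ Set.range jV.left from
          ⟨e' ▸ ((openIncl T' O₁ ≫ g₀ ≫ z).left ⟨t, hcon⟩).2, _, rfl⟩))
    refine ⟨PUnit, fun _ => T, fun _ => 𝟙 T, identity_cover T, fun _ => ⟨l, ?_⟩⟩
    rw [CategoryTheory.Functor.map_id, Category.id_comp]
    haveI : Mono ((yon S).map (openIncl N O)) := (yon S).map_mono _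
    apply pullback.hom_ext
    · rw [Category.assoc, pullback.lift_fst, hl]
    · rw [← cancel_mono ((yon S).map (openIncl N O)), Category.assoc, Category.assoc, ← pullback.condition,
        reassoc_of% (pullback.lift_fst i ((yon S).map iN) hw), reassoc_of% hl, Category.assoc, ← pullback.condition]
  exact IsPullback.of_iso_pullback ⟨hw⟩ (asIso L) (pullback.lift_fst _ _ _) (pullback.lift_snd _ _ _)

end Groth.Agent.H12AlgSp.NormSp
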